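import Cfsg.Agent.H63.PrimLite

set_option autoImplicit false

namespace Cfsg.Agent.H63

open MulAction

section

variable {G Ω : Type*} [Group G] [MulAction G Ω]

/-- Factorization `G = N G_α` for a transitive subgroup `N`. -/
theorem exists_mul_stabilizer (N : Subgroup G) [IsPretransitive N Ω] (α : Ω) (g : G) :
    ∃ u ∈ N, ∃ h ∈ stabilizer G α, g = u * h := by
  obtain ⟨u, hu⟩ := exists_smul_eq N α (g • α)
  refine ⟨u, u.2, (u : G)⁻¹ * g, ?_, by group⟩
  rw [mem_stabilizer_iff, mul_smul, inv_smul_eq_iff]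
  exact hu.symm

theorem eq_one_of_smul_eq {N : Subgroup G} {α : Ω} (hreg : stabilizer N α = ⊥) {x : G}
    (hx : x ∈ N) (hfix : x • α = α) : x = 1 := by
  have : (⟨x, hx⟩ : N) ∈ stabilizer N α := hfix
  rw [hreg, Subgroup.mem_bot] at this
  exact congrArg Subtype.val this

theorem two_le_card_fixedBy [Finite Ω] {g : G} {a b : Ω} (hab : a ≠ b) (ha : g • a = a)
    (hb : g • b = b) : 2 ≤ Nat.card (fixedBy Ω g) := by
  have : Nontrivial (fixedBy Ω g) :=
    ⟨⟨⟨a, ha⟩, ⟨b, hb⟩, fun h => hab (congrArg Subtype.val h)⟩⟩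
  exact Finite.one_lt_card_iff_nontrivial.mpr this

/-- An element of the point stabilizer fixes `w • α` (`w` in the regular normal subgroup) iff it
commutes with `w`. -/
theorem smul_smul_eq_iff_comm (N : Subgroup G) [hN : N.Normal] {α : Ω}
    (hreg : stabilizer N α = ⊥) {h w : G} (hh : h ∈ stabilizer G α) (hw : w ∈ N) :
    h • w • α = w • α ↔ h * w = w * h := by
  have hα : h • α = α := hh
  have hinv : h⁻¹ • α = α := by rw [inv_smul_eq_iff]; exact hα.symm
  constructor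
  · intro hfix
    have hmem : w⁻¹ * (h * w * h⁻¹) ∈ N := N.mul_mem (N.inv_mem hw) (hN.conj_mem w hw h)
    have h1 : (w⁻¹ * (h * w * h⁻¹)) • α = α := by
      simp only [mul_smul]
      rw [hinv, hfix, inv_smul_smul]
    have h2 := eq_one_of_smul_eq hreg hmem h1
    calc h * w = w * (w⁻¹ * (h * w * h⁻¹)) * h := by group
      _ = w * h := by rw [h2, mul_one]
  · intro hc
    rw [← mul_smul, hc, mul_smul, hα]

/-- Fixed points of `m * h` for `m` in the regular normal subgroup and `h` in the stabilizer. -/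
theorem mul_smul_smul_eq_iff (N : Subgroup G) [hN : N.Normal] {α : Ω}
    (hreg : stabilizer N α = ⊥) {m u h : G} (hm : m ∈ N) (hu : u ∈ N)
    (hh : h ∈ stabilizer G α) :
    (m * h) • u • α = u • α ↔ m = u * (h * u * h⁻¹)⁻¹ := by
  have hα : h • α = α := hh
  have hinv : h⁻¹ • α = α := by rw [inv_smul_eq_iff]; exact hα.symm
  have hk : h * u * h⁻¹ ∈ N := hN.conj_mem u hu h
  have hmem : u⁻¹ * m * (h * u * h⁻¹) ∈ N := N.mul_mem (N.mul_mem (N.inv_mem hu) hm) hk
  have e : (u⁻¹ * m * (h * u * h⁻¹)) • α = u⁻¹ • (m * h) • u • α := by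
    simp only [mul_smul]
    rw [hinv]
  constructor
  · intro hfix
    have h1 : (u⁻¹ * m * (h * u * h⁻¹)) • α = α := by rw [e, hfix, inv_smul_smul]
    have h2 := eq_one_of_smul_eq hreg hmem h1
    calc m = u * (u⁻¹ * m * (h * u * h⁻¹)) * (h * u * h⁻¹)⁻¹ := by group
      _ = u * (h * u * h⁻¹)⁻¹ := by rw [h2, mul_one]
  · intro hm'
    have h2 : u⁻¹ * m * (h * u * h⁻¹) = 1 := by rw [hm']; group
    have h1 : (u⁻¹ * m * (h * u * h⁻¹)) • α = α := by rw [h2, one_smul]
    rw [e, inv_smul_eq_iff] at h1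
    exact h1

/-- If `h ∈ G_α` commutes with no nonidentity element of the regular normal subgroup `N`, then
every `m * h` (`m ∈ N`) has a fixed point. -/
theorem exists_fixed_of_centralizer_trivial [Finite G] (N : Subgroup G) [hN : N.Normal] {α : Ω}
    (hreg : stabilizer N α = ⊥) {h : G} (hh : h ∈ stabilizer G α)
    (hc : ∀ w ∈ N, h * w = w * h → w = 1) {m : G} (hm : m ∈ N) :
    ∃ u ∈ N, (m * h) • u • α = u • α := by
  let ψ : N → N := fun u => ⟨(u : G) * (h * u * h⁻¹)⁻¹,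
    N.mul_mem u.2 (N.inv_mem (hN.conj_mem u u.2 h))⟩
  have hinj : Function.Injective ψ := by
    intro u v huv
    have e : (u : G) * (h * u * h⁻¹)⁻¹ = (v : G) * (h * v * h⁻¹)⁻¹ := congrArg Subtype.val huv
    have e2 : (v : G)⁻¹ * u = h * ((v : G)⁻¹ * u) * h⁻¹ := by
      calc (v : G)⁻¹ * u = (v : G)⁻¹ * ((u : G) * (h * u * h⁻¹)⁻¹) * (h * u * h⁻¹) := by group
        _ = (v : G)⁻¹ * ((v : G) * (h * v * h⁻¹)⁻¹) * (h * u * h⁻¹) := by rw [e]
        _ = h * ((v : G)⁻¹ * u) * h⁻¹ := by group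
    have e3 : h * ((v : G)⁻¹ * u) = ((v : G)⁻¹ * u) * h := by
      calc h * ((v : G)⁻¹ * u) = (h * ((v : G)⁻¹ * u) * h⁻¹) * h := by group
        _ = ((v : G)⁻¹ * u) * h := by rw [← e2]
    have e4 := hc _ (N.mul_mem (N.inv_mem v.2) u.2) e3
    apply Subtype.ext
    have := congrArg (fun z => (v : G) * z) e4
    simpa using this
  obtain ⟨u, hu⟩ := (Finite.injective_iff_surjective.mp hinj) ⟨m, hm⟩
  refine ⟨u, u.2, ?_⟩
  rw [mul_smul_smul_eq_iff N hreg hm u.2 hh]
  exact (congrArg Subtype.val hu).symm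

/-- If `h ∈ G_α` commutes with a nonidentity element of the regular normal subgroup `N`, then
some `m * h` (`m ∈ N`) is fixed-point-free. -/
theorem exists_derangement_of_commute [Finite G] (N : Subgroup G) [hN : N.Normal]
    [IsPretransitive N Ω] {α : Ω} (hreg : stabilizer N α = ⊥) {h w : G}
    (hh : h ∈ stabilizer G α) (hw : w ∈ N) (hw1 : w ≠ 1) (hc : h * w = w * h) :
    ∃ m ∈ N, ∀ ω : Ω, (m * h) • ω ≠ ω := by
  let ψ : N → N := fun u => ⟨(u : G) * (h * u * h⁻¹)⁻¹,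
    N.mul_mem u.2 (N.inv_mem (hN.conj_mem u u.2 h))⟩
  have hninj : ¬ Function.Injective ψ := by
    intro hinj
    have e : ψ ⟨w, hw⟩ = ψ 1 := by
      apply Subtype.ext
      show w * (h * w * h⁻¹)⁻¹ = ((1 : N) : G) * (h * ((1 : N) : G) * h⁻¹)⁻¹
      rw [hc]
      simp
    have := hinj e
    exact hw1 (congrArg Subtype.val this)
  have hnsurj : ¬ Function.Surjective ψ := fun hs => hninj (Finite.injective_iff_surjective.mpr hs)
  rw [Function.Surjective] at hnsurj
  push Not at hnsurj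
  obtain ⟨m, hm⟩ := hnsurj
  refine ⟨m, m.2, ?_⟩
  intro ω hω
  obtain ⟨u, rfl⟩ := exists_smul_eq N α ω
  have hω' : ((m : G) * h) • (u : G) • α = (u : G) • α := hω
  rw [mul_smul_smul_eq_iff N hreg m.2 u.2 hh] at hω'
  exact hm u (Subtype.ext hω'.symm)

end

end Cfsg.Agent.H63
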