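import Cfsg.Agent.H63.AffineLite
import Cfsg.Agent.H63.Derange

set_option autoImplicit false

namespace Cfsg.Agent.H63

open MulAction

section

variable {G Ω : Type*} [Group G] [MulAction G Ω]

/-- In `G = N G_α` with `N` abelian normal, conjugacy of an element of `N` is realized inside
the point stabilizer. -/
theorem exists_stabilizer_conj (N : Subgroup G) [hNn : N.Normal] [IsPretransitive N Ω]
    (hab : ∀ x ∈ N, ∀ y ∈ N, x * y = y * x) (α : Ω) {x y : G} (hx : x ∈ N) (hc : IsConj x y) :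
    ∃ h ∈ stabilizer G α, h * x * h⁻¹ = y := by
  rw [isConj_iff] at hc
  obtain ⟨c, rfl⟩ := hc
  obtain ⟨u, hu, h, hh, rfl⟩ := exists_mul_stabilizer N α c
  refine ⟨h, hh, ?_⟩
  have hk : h * x * h⁻¹ ∈ N := hNn.conj_mem x hx h
  have := hab u hu _ hk
  calc h * x * h⁻¹ = (h * x * h⁻¹) * u * u⁻¹ := by group
    _ = u * (h * x * h⁻¹) * u⁻¹ := by rw [← this]
    _ = u * h * x * (u * h)⁻¹ := by group

/-- If all nonidentity elements of the regular abelian normal subgroup `N` are conjugate, the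
group is 2-transitive. -/
theorem two_pretransitive_of_conj (N : Subgroup G) [hNn : N.Normal] [IsPretransitive N Ω]
    (hab : ∀ x ∈ N, ∀ y ∈ N, x * y = y * x)
    (hconj : ∀ x ∈ N, ∀ y ∈ N, x ≠ 1 → y ≠ 1 → IsConj x y) :
    IsMultiplyPretransitive G Ω 2 := by
  have hGt : ∀ α β : Ω, ∃ x : G, x • α = β := by
    intro α β
    obtain ⟨x, hx⟩ := exists_smul_eq N α β
    exact ⟨x, hx⟩
  have hHt : ∀ α β γ : Ω, β ≠ α → γ ≠ α → ∃ h ∈ stabilizer G α, h • β = γ := by
    intro α β γ hβ hγ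
    obtain ⟨n₁, hn₁⟩ := exists_smul_eq N α β
    obtain ⟨n₂, hn₂⟩ := exists_smul_eq N α γ
    have hn₁' : (n₁ : G) • α = β := hn₁
    have hn₂' : (n₂ : G) • α = γ := hn₂
    have h1 : (n₁ : G) ≠ 1 := by
      intro h
      rw [h, one_smul] at hn₁'
      exact hβ hn₁'.symm
    have h2 : (n₂ : G) ≠ 1 := by
      intro h
      rw [h, one_smul] at hn₂'
      exact hγ hn₂'.symm
    obtain ⟨h, hh, he⟩ := exists_stabilizer_conj N hab α n₁.2 (hconj _ n₁.2 _ n₂.2 h1 h2)
    refine ⟨h, hh, ?_⟩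
    have hα : h • α = α := hh
    rw [← hn₁', ← hn₂', ← he, mul_smul, mul_smul, inv_smul_eq_iff.mpr hα.symm]
  rw [is_two_pretransitive_iff]
  intro a b c d hab' hcd
  obtain ⟨x, hx⟩ := hGt c a
  obtain ⟨y, hy⟩ := hGt c c
  have hb : x⁻¹ • b ≠ c := by
    intro h
    apply hab'
    rw [← hx, ← h, smul_inv_smul]
  obtain ⟨h, hh, hh'⟩ := hHt c _ _ hb hcd.symm
  have hα : h • c = c := hh
  refine ⟨h * x⁻¹, ?_, ?_⟩
  · rw [mul_smul, ← hx, inv_smul_smul, hα]
  · rw [mul_smul, hh']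

/-- If all derangements lie in the regular normal subgroup `N`, then every nonidentity element
fixes at most one point. -/
theorem sharp_of_derangements_mem [Finite G] (N : Subgroup G) [hNn : N.Normal]
    [IsPretransitive N Ω] (hreg : ∀ ω : Ω, stabilizer N ω = ⊥)
    (hallN : ∀ x : G, (∀ ω : Ω, x • ω ≠ ω) → x ∈ N) :
    ∀ g : G, g ≠ 1 → ∀ a b : Ω, a ≠ b → g • a = a → g • b ≠ b := by
  intro g hg1 β γ hβγ' hβ hγ
  obtain ⟨x, hx⟩ := exists_smul_eq N γ β
  have hx' : (x : G) • γ = β := hx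
  have hfixw : g • (x : G) • γ = (x : G) • γ := by rw [hx', hβ]
  have hx1 : (x : G) ≠ 1 := by
    intro h
    rw [h, one_smul] at hx'
    exact hβγ' hx'.symm
  have hcomm := (smul_smul_eq_iff_comm N (hreg γ) (mem_stabilizer_iff.mpr hγ) x.2).mp hfixw
  obtain ⟨m, hm, hmd⟩ :=
    exists_derangement_of_commute N (hreg γ) (mem_stabilizer_iff.mpr hγ) x.2 hx1 hcomm
  have h1 : m * g ∈ N := hallN _ hmd
  have h2 : g ∈ N := by
    have := N.mul_mem (N.inv_mem hm) h1
    simpa using this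
  exact hg1 (eq_one_of_smul_eq (hreg γ) h2 hγ)

/-- In a finite sharply 2-transitive group all derangements are conjugate (and there is one). -/
theorem exists_derangement_conj_of_sharp [Finite G] [Finite Ω] (hΩ : 2 ≤ Nat.card Ω)
    (h2t : IsMultiplyPretransitive G Ω 2)
    (hsharp : ∀ g : G, g ≠ 1 → ∀ a b : Ω, a ≠ b → g • a = a → g • b ≠ b) :
    ∃ d : G, (∀ ω : Ω, d • ω ≠ ω) ∧ ∀ x : G, (∀ ω : Ω, x • ω ≠ ω) → IsConj x d := by
  classical
  have := Fintype.ofFinite G
  have := Fintype.ofFinite Ω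
  have htr : IsPretransitive G Ω := isPretransitive_of_is_two_pretransitive
  have hne : Nonempty Ω := by
    by_contra h
    rw [not_nonempty_iff] at h
    have := Nat.card_of_isEmpty (α := Ω)
    omega
  obtain ⟨α⟩ := hne
  have hne : Nonempty Ω := ⟨α⟩
  set f : G → ℕ := fun g => Nat.card (fixedBy Ω g) with hf
  set n := Nat.card Ω with hn
  have hI : ∑ g : G, f g = Nat.card G := by
    have := sum_card_fixedBy G Ω
    rw [card_orbitRel_quotient_eq_one, one_mul] at this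
    exact this
  have hf1 : f 1 = n := by
    have : fixedBy Ω (1 : G) = Set.univ := by
      ext q; simp
    show Nat.card (fixedBy Ω (1 : G)) = n
    rw [this, Nat.card_coe_set_eq, Set.ncard_univ]
  have hfg : ∀ g : G, g ≠ 1 → f g = if (∀ ω : Ω, g • ω ≠ ω) then 0 else 1 := by
    intro g hg
    split_ifs with hd
    · have : IsEmpty (fixedBy Ω g) := ⟨fun x => hd x.1 x.2⟩
      exact Nat.card_of_isEmpty
    · push Not at hd
      obtain ⟨ω, hω⟩ := hd
      have h1 : Subsingleton (fixedBy Ω g) := by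
        constructor
        rintro ⟨a, ha⟩ ⟨b, hb⟩
        by_contra hab
        exact hsharp g hg a b (fun h => hab (Subtype.ext h)) ha hb
      have h2 : Nonempty (fixedBy Ω g) := ⟨⟨ω, hω⟩⟩
      exact Nat.card_eq_one_iff_unique.mpr ⟨h1, h2⟩
  have hsplit := Finset.add_sum_erase (Finset.univ : Finset G) f (Finset.mem_univ 1)
  have hrest : ∑ g ∈ Finset.univ.erase (1 : G), f g =
      ((Finset.univ.erase (1 : G)).filter (fun g => ¬ ∀ ω : Ω, g • ω ≠ ω)).card := by
    rw [Finset.card_filter]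
    apply Finset.sum_congr rfl
    intro g hg
    rw [hfg g (Finset.ne_of_mem_erase hg)]
    split_ifs <;> rfl
  have hcard := Finset.card_filter_add_card_filter_not (s := Finset.univ.erase (1 : G))
    (fun g => ∀ ω : Ω, g • ω ≠ ω)
  have hcard' : (Finset.univ.erase (1 : G)).card = Nat.card G - 1 := by
    rw [Finset.card_erase_of_mem (Finset.mem_univ 1), Finset.card_univ, Nat.card_eq_fintype_card]
  have hDcard : ((Finset.univ.erase (1 : G)).filter (fun g => ∀ ω : Ω, g • ω ≠ ω)).card =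
      Nat.card {t : G // ∀ ω : Ω, t • ω ≠ ω} := by
    rw [Nat.card_eq_fintype_card, Fintype.card_subtype]
    congr 1
    ext g
    simp only [Finset.mem_filter, Finset.mem_erase, Finset.mem_univ, and_true, true_and]
    constructor
    · exact fun h => h.2
    · intro h
      refine ⟨?_, h⟩
      rintro rfl
      exact h α (one_smul _ _)
  have hGpos : 0 < Nat.card G := Nat.card_pos
  have hDn : Nat.card {t : G // ∀ ω : Ω, t • ω ≠ ω} + 1 = n := by
    rw [← hDcard]
    rw [hf1, hrest] at hsplit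
    omega
  have hcompl : Nat.card {ω : Ω // ω ≠ α} + 1 = n := by
    have h5 : ({α}ᶜ : Set Ω).ncard = n - 1 := by
      rw [Set.ncard_compl, Set.ncard_singleton]
    have h6 : Nat.card {ω : Ω // ω ≠ α} = ({α}ᶜ : Set Ω).ncard := by
      rw [← Nat.card_coe_set_eq]
      rfl
    omega
  have hDne : Nonempty {t : G // ∀ ω : Ω, t • ω ≠ ω} := by
    have : Nat.card {t : G // ∀ ω : Ω, t • ω ≠ ω} ≠ 0 := by omega
    exact (Nat.card_ne_zero.mp this).1
  obtain ⟨⟨t₀, ht₀⟩⟩ := hDne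
  have hder_conj : ∀ k u : G, (∀ ω : Ω, u • ω ≠ ω) → ∀ ω : Ω, (k * u * k⁻¹) • ω ≠ ω := by
    intro k u hu ω hω
    apply hu (k⁻¹ • ω)
    rw [mul_smul, mul_smul] at hω
    have := congrArg (fun z => k⁻¹ • z) hω
    simpa using this
  let e : {t : G // ∀ ω : Ω, t • ω ≠ ω} → {ω : Ω // ω ≠ α} := fun t => ⟨(t : G) • α, t.2 α⟩
  have hkey : ∀ β : Ω, β ≠ α → ∃ h : G, h • α = α ∧ h • t₀ • α = β := by
    intro β hβ
    exact (is_two_pretransitive_iff.mp h2t) (ht₀ α).symm hβ.symm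
  have hsurj : Function.Surjective e := by
    rintro ⟨β, hβ⟩
    obtain ⟨h, hα, hβ'⟩ := hkey β hβ
    refine ⟨⟨h * t₀ * h⁻¹, hder_conj h t₀ ht₀⟩, ?_⟩
    apply Subtype.ext
    show (h * t₀ * h⁻¹) • α = β
    rw [mul_smul, mul_smul, inv_smul_eq_iff.mpr hα.symm, hβ']
  have hbij := hsurj.bijective_of_nat_card_le (by omega)
  refine ⟨t₀, ht₀, ?_⟩
  intro x hx
  obtain ⟨h, hα, hβ'⟩ := hkey (x • α) (hx α)
  have heq : e ⟨h * t₀ * h⁻¹, hder_conj h t₀ ht₀⟩ = e ⟨x, hx⟩ := by
    apply Subtype.ext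
    show (h * t₀ * h⁻¹) • α = x • α
    rw [mul_smul, mul_smul, inv_smul_eq_iff.mpr hα.symm, hβ']
  have := congrArg Subtype.val (hbij.1 heq)
  have hc : IsConj t₀ x := isConj_iff.mpr ⟨h, this⟩
  exact hc.symm

end

end Cfsg.Agent.H63
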