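import Cfsg.Agent.H63.Derange

set_option autoImplicit false

namespace Cfsg.Agent.H63

open MulAction

section

variable {G Ω : Type*} [Group G] [MulAction G Ω]

/-- If all derangements square to one then `n * #derangements ≤ ∑ fix(g) (fix(g) - 1)`. -/
theorem card_mul_derangements_le [Fintype G] [Finite Ω]
    (hinv : ∀ g : G, (∀ ω : Ω, g • ω ≠ ω) → g * g = 1) :
    Nat.card {t : G // ∀ ω : Ω, t • ω ≠ ω} * Nat.card Ω ≤
      ∑ g : G, Nat.card (fixedBy Ω g) * (Nat.card (fixedBy Ω g) - 1) := by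
  classical
  have := Fintype.ofFinite Ω
  have hex : ∀ α β : Ω, ∃ c : G, (∃ t : G, (∀ ω : Ω, t • ω ≠ ω) ∧ t • α = β) →
      ((∀ ω : Ω, c • ω ≠ ω) ∧ c • α = β) := by
    intro α β
    by_cases h : ∃ t : G, (∀ ω : Ω, t • ω ≠ ω) ∧ t • α = β
    · obtain ⟨t, ht⟩ := h
      exact ⟨t, fun _ => ht⟩
    · exact ⟨1, fun h' => absurd h' h⟩
  choose c hc using hex
  let Y := Σ g : G, {p : Ω × Ω // p.1 ≠ p.2 ∧ g • p.1 = p.1 ∧ g • p.2 = p.2}
  let φ : {t : G // ∀ ω : Ω, t • ω ≠ ω} × Ω → Y := fun x =>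
    ⟨(c x.2 ((x.1 : G) • x.2))⁻¹ * (x.1 : G), ⟨(x.2, (x.1 : G) • x.2), by
      obtain ⟨⟨t, ht⟩, α⟩ := x
      have h1 := hc α (t • α) ⟨t, ht, rfl⟩
      have htt : t • t • α = α := by rw [← mul_smul, hinv t ht, one_smul]
      have hcc : (c α (t • α))⁻¹ = c α (t • α) := by
        rw [inv_eq_iff_mul_eq_one]
        exact hinv _ h1.1
      refine ⟨(ht α).symm, ?_, ?_⟩
      · show ((c α (t • α))⁻¹ * t) • α = α
        rw [mul_smul, inv_smul_eq_iff]
        exact h1.2.symm
      · show ((c α (t • α))⁻¹ * t) • t • α = t • α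
        rw [mul_smul, htt, hcc]
        exact h1.2⟩⟩
  let ψ : Y → G × Ω × Ω := fun y => (y.1, y.2.1)
  have hinj : Function.Injective φ := by
    apply Function.Injective.of_comp (f := ψ)
    rintro ⟨⟨t, ht⟩, α⟩ ⟨⟨t', ht'⟩, α'⟩ h
    have h1 : (c α (t • α))⁻¹ * t = (c α' (t' • α'))⁻¹ * t' := congrArg Prod.fst h
    have h2 : α = α' := congrArg (fun z => z.2.1) h
    have h3 : t • α = t' • α' := congrArg (fun z => z.2.2) h
    subst h2
    rw [h3] at h1
    have h4 : t = t' := mul_left_cancel h1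
    subst h4
    rfl
  have hle := Nat.card_le_card_of_injective φ hinj
  rw [Nat.card_prod, Nat.card_sigma] at hle
  refine hle.trans (le_of_eq ?_)
  apply Finset.sum_congr rfl
  intro g _
  set s : Finset Ω := Finset.univ.filter (fun ω => g • ω = ω) with hs
  have hscard : Nat.card (fixedBy Ω g) = s.card := by
    rw [Nat.card_eq_fintype_card, hs, ← Fintype.card_subtype]
    rfl
  rw [hscard, Nat.card_eq_fintype_card, Fintype.card_subtype, Nat.mul_sub_one, ← Finset.offDiag_card]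
  congr 1
  ext p
  simp only [Finset.mem_filter, Finset.mem_univ, true_and, Finset.mem_offDiag, hs]
  tauto

/-- In a faithful transitive group in which every derangement is an involution, every nonidentity
element fixes at most one point. -/
theorem card_fixedBy_le_one_of_derangements_sq [Finite G] [Finite Ω] [IsPretransitive G Ω]
    [FaithfulSMul G Ω] (hinv : ∀ g : G, (∀ ω : Ω, g • ω ≠ ω) → g * g = 1) :
    ∀ g : G, g ≠ 1 → Nat.card (fixedBy Ω g) ≤ 1 := by
  classical
  have := Fintype.ofFinite G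
  have := Fintype.ofFinite Ω
  intro g₀ hg₀
  have hne : Nonempty Ω := by
    by_contra hempty
    rw [not_nonempty_iff] at hempty
    apply hg₀
    apply FaithfulSMul.eq_of_smul_eq_smul (α := Ω)
    intro ω
    exact (hempty.false ω).elim
  set f : G → ℕ := fun g => Nat.card (fixedBy Ω g) with hf
  set n := Nat.card Ω with hn
  have hI : ∑ g : G, f g = Nat.card G := by
    have := sum_card_fixedBy G Ω
    rw [card_orbitRel_quotient_eq_one, one_mul] at this
    exact this
  have hII := card_mul_derangements_le (G := G) (Ω := Ω) hinv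
  have hfn : ∀ g : G, f g ≤ n := by
    intro g
    exact Nat.card_le_card_of_injective _ Subtype.val_injective
  have hf0 : ∀ g : G, (∀ ω : Ω, g • ω ≠ ω) → f g = 0 := by
    intro g hg
    have : IsEmpty (fixedBy Ω g) := ⟨fun x => hg x.1 x.2⟩
    exact Nat.card_of_isEmpty
  have hf1 : ∀ g : G, (¬ ∀ ω : Ω, g • ω ≠ ω) → 1 ≤ f g := by
    intro g hg
    push Not at hg
    obtain ⟨ω, hω⟩ := hg
    have : Nonempty (fixedBy Ω g) := ⟨⟨ω, hω⟩⟩
    exact Nat.one_le_iff_ne_zero.mpr (Nat.card_ne_zero.mpr ⟨this, inferInstance⟩)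
  set S := Finset.univ.filter (fun g : G => ¬ ∀ ω : Ω, g • ω ≠ ω) with hS
  set Dl := Finset.univ.filter (fun g : G => ∀ ω : Ω, g • ω ≠ ω) with hDl
  have hDlcard : Dl.card = Nat.card {t : G // ∀ ω : Ω, t • ω ≠ ω} := by
    rw [Nat.card_eq_fintype_card, Fintype.card_subtype]
  have hsplit1 := Finset.sum_filter_add_sum_filter_not (Finset.univ : Finset G)
    (fun g : G => ∀ ω : Ω, g • ω ≠ ω) f
  have hsplit2 := Finset.sum_filter_add_sum_filter_not (Finset.univ : Finset G)
    (fun g : G => ∀ ω : Ω, g • ω ≠ ω) (fun g => f g * (f g - 1))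
  have hz1 : ∑ g ∈ Dl, f g = 0 := Finset.sum_eq_zero (fun g hg => hf0 g (Finset.mem_filter.mp hg).2)
  have hz2 : ∑ g ∈ Dl, f g * (f g - 1) = 0 :=
    Finset.sum_eq_zero (fun g hg => by rw [hf0 g (Finset.mem_filter.mp hg).2, zero_mul])
  have hcards : Dl.card + S.card = Nat.card G := by
    rw [hDl, hS, Finset.card_filter_add_card_filter_not, Finset.card_univ, Nat.card_eq_fintype_card]
  have hS1 : ∑ g ∈ S, (f g - 1) + S.card = ∑ g ∈ S, f g := by
    rw [Finset.card_eq_sum_ones, ← Finset.sum_add_distrib]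
    apply Finset.sum_congr rfl
    intro g hg
    have := hf1 g (Finset.mem_filter.mp hg).2
    omega
  have hSsum : ∑ g ∈ S, (f g - 1) = Dl.card := by
    have : ∑ g ∈ S, f g = Nat.card G := by
      rw [← hI, ← hsplit1, hz1, zero_add]
    omega
  have hle : ∑ g ∈ S, n * (f g - 1) ≤ ∑ g ∈ S, f g * (f g - 1) := by
    rw [← Finset.mul_sum, hSsum, hDlcard, mul_comm]
    calc Nat.card {t : G // ∀ ω : Ω, t • ω ≠ ω} * n
        ≤ ∑ g : G, f g * (f g - 1) := hII
      _ = ∑ g ∈ S, f g * (f g - 1) := by rw [← hsplit2, hz2, zero_add]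
  have hterm : ∀ g ∈ S, f g * (f g - 1) ≤ n * (f g - 1) :=
    fun g _ => Nat.mul_le_mul_right _ (hfn g)
  have heq : ∑ g ∈ S, f g * (f g - 1) = ∑ g ∈ S, n * (f g - 1) :=
    le_antisymm (Finset.sum_le_sum hterm) hle
  have hall := (Finset.sum_eq_sum_iff_of_le hterm).mp heq
  by_cases hgd : ∀ ω : Ω, g₀ • ω ≠ ω
  · have := hf0 g₀ hgd
    show f g₀ ≤ 1
    omega
  · have hmem : g₀ ∈ S := Finset.mem_filter.mpr ⟨Finset.mem_univ _, hgd⟩
    have h1 := hall g₀ hmem
    have h2 := hf1 g₀ hgd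
    show f g₀ ≤ 1
    by_contra hcon
    push Not at hcon
    have h3 : f g₀ = n := by
      have : f g₀ - 1 ≠ 0 := by omega
      exact Nat.eq_of_mul_eq_mul_right (Nat.pos_of_ne_zero this) h1
    apply hg₀
    apply FaithfulSMul.eq_of_smul_eq_smul (α := Ω)
    intro ω
    rw [one_smul]
    by_contra hω
    have hlt : f g₀ < n := by
      have hsub : fixedBy Ω g₀ ⊆ {ω}ᶜ := by
        intro x hx
        rw [Set.mem_compl_iff, Set.mem_singleton_iff]
        intro hxω
        rw [hxω] at hx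
        exact hω hx
      have h4 : f g₀ ≤ ({ω}ᶜ : Set Ω).ncard := by
        show Nat.card (fixedBy Ω g₀) ≤ _
        rw [Nat.card_coe_set_eq]
        exact Set.ncard_le_ncard hsub
      have h5 : ({ω}ᶜ : Set Ω).ncard = n - 1 := by
        rw [Set.ncard_compl, Set.ncard_singleton]
      have hnpos : 0 < n := Nat.card_pos
      omega
    omega

end

end Cfsg.Agent.H63
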