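import Mathlib
import Cfsg.Agent.H76.NCZDefs

/-!
# NCZ-FREEABS (helper63, for helper76's S1353 / S1354 project)

`freeAbs : StFreeAbs.{u}`: the abstract Frobenius "freeness" count
`|M| = |M^D| ^ |D|`, by a Vandermonde argument over the commutative subring generated by the
conjugates `x_d = ρ_d β ρ_d⁻¹`.
-/

set_option autoImplicit false

namespace Cfsg.Agent.H63.NCZ

open Cfsg.Agent.H76.NCKill

universe u

/-- A product of scalars acting injectively acts injectively. -/
theorem prod_smul_inj {R : Type*} [CommRing R] {M : Type*} [AddCommGroup M] [Module R M]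
    {ι : Type*} (s : Finset ι) (f : ι → R)
    (hf : ∀ i ∈ s, ∀ v : M, f i • v = 0 → v = 0) :
    ∀ v : M, (∏ i ∈ s, f i) • v = 0 → v = 0 := by
  refine Finset.prod_induction f (fun r : R => ∀ v : M, r • v = 0 → v = 0) ?_ ?_ hf
  · intro a b ha hb v hv
    rw [mul_smul] at hv
    exact hb v (ha _ hv)
  · intro v hv
    simpa using hv

/-- Vandermonde injectivity over a module. -/
theorem vand_inj {R : Type*} [CommRing R] {M : Type*} [AddCommGroup M] [Module R M]
    {n : ℕ} (x : Fin n → R)
    (hx : ∀ i j, i ≠ j → ∀ v : M, (x i - x j) • v = 0 → v = 0)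
    (w : Fin n → M) (hw : ∀ i, ∑ j : Fin n, x i ^ (j : ℕ) • w j = 0) : w = 0 := by
  classical
  have hdet : ∀ v : M, (Matrix.vandermonde x).det • v = 0 → v = 0 := by
    rw [Matrix.det_vandermonde]
    refine prod_smul_inj _ _ fun i _ => ?_
    refine prod_smul_inj _ _ fun j hj => ?_
    have hij : i ≠ j := (Finset.mem_Ioi.mp hj).ne
    exact hx j i hij.symm
  funext i
  apply hdet
  have h1 : Matrix.adjugate (Matrix.vandermonde x) * Matrix.vandermonde x
      = (Matrix.vandermonde x).det • (1 : Matrix (Fin n) (Fin n) R) := Matrix.adjugate_mul _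
  have key : (Matrix.vandermonde x).det • w i
      = ∑ k, (Matrix.adjugate (Matrix.vandermonde x)) i k •
          ∑ j, (Matrix.vandermonde x) k j • w j := by
    simp_rw [Finset.smul_sum, smul_smul]
    rw [Finset.sum_comm]
    simp_rw [← Finset.sum_smul]
    have h2 : ∀ j, ∑ k, (Matrix.adjugate (Matrix.vandermonde x)) i k * (Matrix.vandermonde x) k j
        = if i = j then (Matrix.vandermonde x).det else 0 := by
      intro j
      rw [← Matrix.mul_apply, h1, Matrix.smul_apply, Matrix.one_apply, smul_eq_mul, mul_ite,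
        mul_one, mul_zero]
    simp_rw [h2, ite_smul, zero_smul]
    simp
  rw [key]
  apply Finset.sum_eq_zero
  intro k _
  have h3 : ∑ j, (Matrix.vandermonde x) k j • w j = 0 := by
    simpa [Matrix.vandermonde_apply] using hw k
  rw [h3, smul_zero]

theorem freeAbs : StFreeAbs.{u} := by
  intro M _ _ D _ _ ρ β hcomm hfix
  classical
  set n := Nat.card D with hn
  let e : Fin n ≃ D := (Finite.equivFin D).symm
  let x : D → AddMonoid.End M := fun d => ρ d * β * ρ d⁻¹
  have hinv : ∀ d : D, ρ d⁻¹ * ρ d = 1 := fun d => by rw [← map_mul, inv_mul_cancel, map_one]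
  have hinv' : ∀ d : D, ρ d * ρ d⁻¹ = 1 := fun d => by rw [← map_mul, mul_inv_cancel, map_one]
  have hxpow : ∀ (d : D) (j : ℕ), x d ^ j = ρ d * β ^ j * ρ d⁻¹ := by
    intro d j
    induction j with
    | zero => simp [hinv']
    | succ j ih =>
      rw [pow_succ, ih, pow_succ]
      calc ρ d * β ^ j * ρ d⁻¹ * (ρ d * β * ρ d⁻¹)
          = ρ d * β ^ j * (ρ d⁻¹ * ρ d) * β * ρ d⁻¹ := by simp only [mul_assoc]
        _ = ρ d * (β ^ j * β) * ρ d⁻¹ := by rw [hinv, mul_one, mul_assoc (ρ d)]
  let Ψ : (Fin n → M) → (D → M) := fun w d => ∑ j : Fin n, (x d ^ (j : ℕ)) (w j)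
  have hΨsub : ∀ w w', Ψ (w - w') = Ψ w - Ψ w' := by
    intro w w'
    funext d
    simp only [Ψ, Pi.sub_apply, map_sub, Finset.sum_sub_distrib]
  have hΨ0 : ∀ w, Ψ w = 0 → w = 0 := by
    intro w hw
    let S : Set (AddMonoid.End M) := Set.range x
    have hS : ∀ a ∈ S, ∀ b ∈ S, a * b = b * a := by
      rintro _ ⟨d, rfl⟩ _ ⟨d', rfl⟩
      exact hcomm d d'
    letI : CommRing (Subring.closure S) := Subring.closureCommRingOfComm hS
    let xs : Fin n → Subring.closure S :=
      fun i => ⟨x (e i), Subring.subset_closure ⟨e i, rfl⟩⟩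
    refine vand_inj xs ?_ w ?_
    · intro i j hij v hv
      have hne : e i ≠ e j := fun h => hij (e.injective h)
      apply hfix _ _ hne v
      have h1 : (x (e i) - x (e j)) v = 0 := hv
      have h2 : (x (e i) - x (e j)) v = x (e i) v - x (e j) v := rfl
      rw [h2] at h1
      exact sub_eq_zero.mp h1
    · intro i
      have h1 := congrFun hw (e i)
      exact h1
  have hΨinj : Function.Injective Ψ := by
    intro w w' h
    have h1 := hΨ0 (w - w') (by rw [hΨsub, h, sub_self])
    exact sub_eq_zero.mp h1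
  have hΨbij : Function.Bijective Ψ := by
    apply hΨinj.bijective_of_nat_card_le
    rw [Nat.card_fun, Nat.card_fun, Nat.card_fin]
  let θ : (Fin n → {v : M // ∀ d : D, ρ d v = v}) → M :=
    fun w => ∑ j : Fin n, (β ^ (j : ℕ)) (w j).1
  have hΨθ : ∀ (w : Fin n → {v : M // ∀ d : D, ρ d v = v}) (d : D),
      Ψ (fun j => (w j).1) d = ρ d (θ w) := by
    intro w d
    simp only [Ψ, θ, map_sum]
    refine Finset.sum_congr rfl fun j _ => ?_
    rw [hxpow]
    show ρ d ((β ^ (j : ℕ)) (ρ d⁻¹ (w j).1)) = _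
    rw [(w j).2 d⁻¹]
  have hθinj : Function.Injective θ := by
    intro w w' h
    have h1 : (fun j => (w j).1) = fun j => (w' j).1 := by
      apply hΨinj
      funext d
      rw [hΨθ, hΨθ, h]
    funext j
    exact Subtype.ext (congrFun h1 j)
  have hρmul : ∀ (a b : D) (u : M), ρ a (ρ b u) = ρ (a * b) u := by
    intro a b u
    rw [map_mul]
    rfl
  have hθsurj : Function.Surjective θ := by
    intro v
    obtain ⟨w, hw⟩ := hΨbij.2 (fun d => ρ d v)
    have hfixw : ∀ (d' : D) (j : Fin n), ρ d' (w j) = w j := by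
      intro d'
      have h0 : (fun j => ρ d' (w j)) = w := by
        apply hΨinj
        funext d
        have h1 : Ψ (fun j => ρ d' (w j)) d = ρ d' (Ψ w (d'⁻¹ * d)) := by
          simp only [Ψ, map_sum]
          refine Finset.sum_congr rfl fun j _ => ?_
          rw [hxpow, hxpow]
          show ρ d ((β ^ (j : ℕ)) (ρ d⁻¹ (ρ d' (w j))))
            = ρ d' (ρ (d'⁻¹ * d) ((β ^ (j : ℕ)) (ρ (d'⁻¹ * d)⁻¹ (w j))))
          rw [hρmul, hρmul]
          have e1 : d⁻¹ * d' = (d'⁻¹ * d)⁻¹ := by group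
          have e2 : d' * (d'⁻¹ * d) = d := by group
          rw [e1, e2]
        rw [h1, hw]
        show ρ d' (ρ (d'⁻¹ * d) v) = ρ d v
        rw [hρmul]
        have e2 : d' * (d'⁻¹ * d) = d := by group
        rw [e2]
      exact fun j => congrFun h0 j
    refine ⟨fun j => ⟨w j, fun d => hfixw d j⟩, ?_⟩
    have h1 := hΨθ (fun j => ⟨w j, fun d => hfixw d j⟩) 1
    have h2 : Ψ w 1 = ρ 1 v := congrFun hw 1
    have h3 : Ψ (fun j => w j) 1 = Ψ w 1 := rfl
    rw [map_one] at h1 h2
    have h4 : θ (fun j => ⟨w j, fun d => hfixw d j⟩) = Ψ w 1 := h1.symm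
    rw [h4, h2]
    rfl
  have hbij : Function.Bijective θ := ⟨hθinj, hθsurj⟩
  calc Nat.card M = Nat.card (Fin n → {v : M // ∀ d : D, ρ d v = v}) :=
        (Nat.card_congr (Equiv.ofBijective θ hbij)).symm
    _ = Nat.card {v : M // ∀ d : D, ρ d v = v} ^ Nat.card D := by
        rw [Nat.card_fun, Nat.card_fin]

example : StFreeAbs.{u} := freeAbs

end Cfsg.Agent.H63.NCZ
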