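import Mathlib
import Cfsg.Agent.H45.S8Defs0
import Cfsg.Agent.H68.S9Defs

/-!
# S9-FIXORD (helper63, for helper68's team project S1159)

The orders of the elements of exponent dividing `q³(q-1)`: they divide `6`, `9` or `q - 1`.
-/

set_option autoImplicit false

namespace Cfsg.Agent.H63.S9

open Cfsg.Agent.H45.S8 Cfsg.Agent.H68.S9

universe u

theorem fixOrd : StFixOrd.{u} := by
  intro G _ _ m hm hAr h9 Hd hHd hconj hinv g hg
  obtain ⟨-, -, -, -, -, -, -, -, -, hhodd, h2h, -, -, -, -, -⟩ := hAr m hm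
  have hn : orderOf g ∣ qq m ^ 3 * (qq m - 1) := orderOf_dvd_of_pow_eq_one hg
  have hn0 : orderOf g ≠ 0 := (orderOf_pos g).ne'
  have hq3 : qq m ^ 3 = 3 ^ ((2 * m + 1) * 3) := by
    unfold qq
    rw [← pow_mul]
  by_cases hA : ∃ s : ℕ, s.Prime ∧ s ∣ orderOf g ∧ s ≠ 2 ∧ s ≠ 3
  · obtain ⟨s, hs, hsn, hs2, hs3⟩ := hA
    right; right
    have h1 : s ∣ qq m - 1 := by
      have h2 : s ∣ qq m ^ 3 * (qq m - 1) := hsn.trans hn
      rcases (Nat.Prime.dvd_mul hs).mp h2 with h3 | h3
      · exfalso
        rw [hq3] at h3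
        exact hs3 ((Nat.prime_dvd_prime_iff_eq hs Nat.prime_three).mp (hs.dvd_of_dvd_pow h3))
      · exact h3
    have h2 : s ∣ (qq m - 1) / 2 := by
      rw [← h2h] at h1
      rcases (Nat.Prime.dvd_mul hs).mp h1 with h3 | h3
      · exfalso
        exact hs2 ((Nat.prime_dvd_prime_iff_eq hs Nat.prime_two).mp h3)
      · exact h3
    have hz : orderOf (g ^ (orderOf g / s)) = s := orderOf_pow_orderOf_div hn0 hsn
    obtain ⟨c, hc⟩ := hconj (g ^ (orderOf g / s)) g (by rw [hz]; exact hs) (by rw [hz]; exact h2)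
      (by rw [← pow_succ', ← pow_succ])
    have h3 : orderOf (c * g * c⁻¹) = orderOf g :=
      orderOf_injective (MulAut.conj c).toMonoidHom (MulAut.conj c).injective g
    rw [← h3, ← hHd]
    exact Subgroup.orderOf_dvd_natCard Hd hc
  · push Not at hA
    by_cases h2n : 2 ∣ orderOf g
    · left
      have hz : orderOf (g ^ (orderOf g / 2)) = 2 := orderOf_pow_orderOf_div hn0 h2n
      have hz1 : g ^ (orderOf g / 2) ≠ 1 := by
        intro h
        rw [h, orderOf_one] at hz
        norm_num at hz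
      have hzz : g ^ (orderOf g / 2) * g ^ (orderOf g / 2) = 1 := by
        have := pow_orderOf_eq_one (g ^ (orderOf g / 2))
        rw [hz, pow_two] at this
        exact this
      have hmul : 2 * (orderOf g / 2) = orderOf g := Nat.mul_div_cancel' h2n
      have hodd : ¬ 2 ∣ orderOf g / 2 := by
        intro h
        have h4 : 4 ∣ orderOf g := by
          rw [← hmul]
          obtain ⟨k, hk⟩ := h
          exact ⟨k, by rw [hk]; ring⟩
        have h5 : 4 ∣ qq m ^ 3 * (qq m - 1) := h4.trans hn
        have hcop : Nat.Coprime 4 (qq m ^ 3) := by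
          rw [hq3]
          exact Nat.Coprime.pow_right _ (by norm_num)
        have h6 : 4 ∣ qq m - 1 := hcop.dvd_of_dvd_mul_left h5
        obtain ⟨k, hk⟩ := hhodd
        obtain ⟨j, hj⟩ := h6
        omega
      have hpow : orderOf g / 2 = 3 ^ (orderOf g / 2).primeFactorsList.length := by
        apply Nat.eq_prime_pow_of_unique_prime_dvd
        · intro h
          rw [h] at hmul
          exact hn0 hmul.symm
        · intro d hd hdn
          have hdg : d ∣ orderOf g := by
            rw [← hmul]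
            exact hdn.mul_left 2
          apply hA d hd hdg
          rintro rfl
          exact hodd hdn
      have hw3 : Is3 (g ^ 2) := by
        refine ⟨(orderOf g / 2).primeFactorsList.length, ?_⟩
        rw [← hpow, ← pow_mul, hmul]
        exact pow_orderOf_eq_one g
      have hw := hinv (g ^ (orderOf g / 2)) (g ^ 2) hz1 hzz
        (Commute.pow_pow_self g _ _).eq hw3
      rw [← pow_mul] at hw
      exact orderOf_dvd_of_pow_eq_one hw
    · right; left
      have hpow : orderOf g = 3 ^ (orderOf g).primeFactorsList.length := by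
        apply Nat.eq_prime_pow_of_unique_prime_dvd hn0
        intro d hd hdn
        apply hA d hd hdn
        rintro rfl
        exact h2n hdn
      have hg3 : Is3 g := by
        refine ⟨(orderOf g).primeFactorsList.length, ?_⟩
        rw [← hpow]
        exact pow_orderOf_eq_one g
      exact orderOf_dvd_of_pow_eq_one (h9 g hg3)

example : ∀ (G : Type u) [Group G] [Finite G] (m : ℕ), 1 ≤ m → StArCop →
    (∀ g : G, Is3 g → g ^ 9 = 1) →
    ∀ Hd : Subgroup G, Nat.card ↥Hd = qq m - 1 →
    (∀ z g : G, (orderOf z).Prime → orderOf z ∣ (qq m - 1) / 2 → g * z = z * g →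
      ∃ c : G, c * g * c⁻¹ ∈ Hd) →
    (∀ z w : G, z ≠ 1 → z * z = 1 → w * z = z * w → Is3 w → w ^ 3 = 1) →
    ∀ g : G, g ^ (qq m ^ 3 * (qq m - 1)) = 1 →
      orderOf g ∣ 6 ∨ orderOf g ∣ 9 ∨ orderOf g ∣ qq m - 1 :=
  fixOrd.{u}

end Cfsg.Agent.H63.S9
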