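import Mathlib
import Cfsg.Agent.H45.S8Defs0
import Cfsg.Agent.H68.S9Defs
import Cfsg.Agent.H73.S8Part
import Cfsg.Agent.H19.S8ArBase

/-!
# S9-TORORD (helper63, for helper68's team project S1159)

The orders of the non-trivial elements of order dividing `M = q² - q + 1` divide `q - r + 1`
or `q + r + 1`.
-/

set_option autoImplicit false
set_option linter.style.haveILetI false

namespace Cfsg.Agent.H63.S9

open Cfsg.Agent.H45.S8 Cfsg.Agent.H68.S9

universe u

/-- If the Sylow `s`-subgroups are cyclic, `s ∣ |A|` and `s ∣ orderOf g`, then some conjugate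
`c g c⁻¹` commutes with a non-trivial element of `A`. -/
lemma exists_conj_commute {G : Type u} [Group G] [Finite G] (s : ℕ) [Fact s.Prime]
    (hcyc : ∀ P : Sylow s G, IsCyclic ↥(P : Subgroup G)) (A : Subgroup G)
    (hsA : s ∣ Nat.card ↥A) (g : G) (hsg : s ∣ orderOf g) :
    ∃ c z' : G, z' ∈ A ∧ z' ≠ 1 ∧ (c * g * c⁻¹) * z' = z' * (c * g * c⁻¹) := by
  obtain ⟨y, hy⟩ := exists_prime_orderOf_dvd_card' s hsA
  have hn0 : orderOf g ≠ 0 := (orderOf_pos g).ne'
  have hz : orderOf (g ^ (orderOf g / s)) = s := orderOf_pow_orderOf_div hn0 hsg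
  have hy' : orderOf (y : G) = s := by
    rw [Subgroup.orderOf_coe]
    exact hy
  have hcomm : g * g ^ (orderOf g / s) = g ^ (orderOf g / s) * g := by
    rw [← pow_succ', ← pow_succ]
  obtain ⟨z, hzd⟩ : ∃ z : G, z = g ^ (orderOf g / s) := ⟨_, rfl⟩
  rw [← hzd] at hz hcomm
  obtain ⟨c, hc⟩ := Cfsg.Agent.H73.S8.exists_conj_mem_zpowers s hcyc z (y : G) hz hy'
  refine ⟨c, c * z * c⁻¹, ?_, ?_, ?_⟩
  · exact (Subgroup.zpowers_le.mpr y.2) hc
  · intro h
    have h1 : z = 1 := by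
      have e : z = c⁻¹ * (c * z * c⁻¹) * c := by group
      rw [e, h]
      group
    rw [h1, orderOf_one] at hz
    exact (Fact.out : s.Prime).one_lt.ne hz
  · calc c * g * c⁻¹ * (c * z * c⁻¹) = c * (g * z) * c⁻¹ := by group
      _ = c * (z * g) * c⁻¹ := by rw [hcomm]
      _ = c * z * c⁻¹ * (c * g * c⁻¹) := by group

theorem torOrd : StTorOrd.{u} := by
  intro G _ _ m hm hSyl A₃ A₄ _ hA₃ hS₃ _ hA₄ hS₄ g hg
  obtain ⟨hg1, hgM⟩ := hg
  have hn : orderOf g ∣ MM m := orderOf_dvd_of_pow_eq_one hgM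
  have hn1 : orderOf g ≠ 1 := fun h => hg1 (orderOf_eq_one_iff.mp h)
  obtain ⟨s, hs, hsn⟩ := Nat.exists_prime_and_dvd hn1
  haveI : Fact s.Prime := ⟨hs⟩
  have hsM : s ∣ MM m := hsn.trans hn
  have key : ∀ A : Subgroup G, SelfC A → s ∣ Nat.card ↥A → orderOf g ∣ Nat.card ↥A := by
    intro A hS hsA
    obtain ⟨c, z', hz'A, hz'1, hcomm⟩ := exists_conj_commute s (hSyl s hsM) A hsA g hsn
    have hmem : c * g * c⁻¹ ∈ Subgroup.centralizer ({z'} : Set G) := by
      rw [Subgroup.mem_centralizer_iff]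
      intro h hh
      rw [Set.mem_singleton_iff] at hh
      rw [hh]
      exact hcomm.symm
    rw [hS z' hz'A hz'1] at hmem
    have ho : orderOf (c * g * c⁻¹) = orderOf g :=
      orderOf_injective (MulAut.conj c).toMonoidHom (MulAut.conj c).injective g
    rw [← ho]
    exact Subgroup.orderOf_dvd_natCard A hmem
  have hsM' := hsM
  rw [Cfsg.Agent.H19.S8.MM_factor m hm] at hsM'
  rcases (Nat.Prime.dvd_mul hs).mp hsM' with h | h
  · right
    rw [← hA₄] at h ⊢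
    exact key A₄ hS₄ h
  · left
    rw [← hA₃] at h ⊢
    exact key A₃ hS₃ h

example : ∀ (G : Type u) [Group G] [Finite G] (m : ℕ), 1 ≤ m → HSyl G (MM m) →
    ∀ A₃ A₄ : Subgroup G, IsCyclic ↥A₃ → Nat.card ↥A₃ = qq m - rr m + 1 → SelfC A₃ →
      IsCyclic ↥A₄ → Nat.card ↥A₄ = qq m + rr m + 1 → SelfC A₄ →
      ∀ g ∈ TorSet G (MM m), orderOf g ∣ qq m - rr m + 1 ∨ orderOf g ∣ qq m + rr m + 1 :=
  torOrd.{u}

end Cfsg.Agent.H63.S9
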