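import Mathlib
import Cfsg.Agent.H45.S8Defs0
import Cfsg.Agent.H68.S9Defs
import Cfsg.Agent.H63.S9TorOrd

/-!
# S9-GAMORD (helper63, for helper68's team project S1159)

The order of an element whose order is divisible by a prime divisor of `k = (q+1)/4` divides
`(q+1)/2`.
-/

set_option autoImplicit false
set_option linter.style.haveILetI false

namespace Cfsg.Agent.H63.S9

open Cfsg.Agent.H45.S8 Cfsg.Agent.H68.S9

universe u

theorem gamOrd : StGamOrd.{u} := by
  intro G _ _ m hm hAr hQ hSyl A₁ hcyc hA₁ g hg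
  obtain ⟨s, hs, hsk, hsn⟩ := hg
  haveI : Fact s.Prime := ⟨hs⟩
  obtain ⟨-, -, -, h4k, -, -, -, -, -, -, -, -, -, -, -, -⟩ := hAr m hm
  obtain ⟨-, hcard, h4, hsub⟩ := hQ A₁ hcyc hA₁
  have hsA : s ∣ Nat.card ↥A₁ := by
    rw [hA₁]
    exact hsk
  obtain ⟨c, z', hz'A, hz'1, hcomm⟩ := exists_conj_commute s (hSyl s hsk) A₁ hsA g hsn
  have hCz : Subgroup.centralizer ((Subgroup.zpowers z' : Subgroup G) : Set G) =
      Subgroup.centralizer (A₁ : Set G) :=
    hsub (Subgroup.zpowers z') (Subgroup.zpowers_le.mpr hz'A) (by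
      intro h
      apply hz'1
      have h1 : z' ∈ Subgroup.zpowers z' := Subgroup.mem_zpowers z'
      rw [h] at h1
      exact Subgroup.mem_bot.mp h1)
  have ho : orderOf (c * g * c⁻¹) = orderOf g :=
    orderOf_injective (MulAut.conj c).toMonoidHom (MulAut.conj c).injective g
  obtain ⟨g', hg'⟩ : ∃ g' : G, g' = c * g * c⁻¹ := ⟨_, rfl⟩
  rw [← hg'] at ho hcomm
  have hmem : g' ∈ Subgroup.centralizer (A₁ : Set G) := by
    rw [← hCz, Subgroup.mem_centralizer_iff]
    intro h hh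
    obtain ⟨k, rfl⟩ := Subgroup.mem_zpowers_iff.mp hh
    have hcm : Commute g' z' := hcomm
    exact (hcm.zpow_right k).eq.symm
  have h1 : g' ^ (qq m + 1) = 1 := by
    have h2 : (⟨g', hmem⟩ : ↥(Subgroup.centralizer (A₁ : Set G))) ^
        Nat.card ↥(Subgroup.centralizer (A₁ : Set G)) = 1 := pow_card_eq_one'
    rw [hcard] at h2
    have h3 := congrArg Subtype.val h2
    simpa using h3
  have hx4 : (g' ^ kk m) ^ 4 = 1 := by
    rw [← pow_mul, mul_comm, h4k]
    exact h1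
  have hxmem : g' ^ kk m ∈ Subgroup.centralizer (A₁ : Set G) := pow_mem hmem _
  have hx2 : orderOf (g' ^ kk m) ∣ 2 := by
    have hx' : orderOf (g' ^ kk m) ∣ 2 ^ 2 := orderOf_dvd_of_pow_eq_one hx4
    obtain ⟨i, hi, hie⟩ := (Nat.dvd_prime_pow Nat.prime_two).mp hx'
    interval_cases i
    · rw [hie]
      norm_num
    · rw [hie]
      norm_num
    · exfalso
      apply h4 _ hxmem
      rw [hie]
      norm_num
  have hg2 : g' ^ (2 * kk m) = 1 := by
    rw [mul_comm, pow_mul]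
    exact orderOf_dvd_iff_pow_eq_one.mp hx2
  have hhalf : (qq m + 1) / 2 = 2 * kk m := by omega
  rw [hhalf, ← ho]
  exact orderOf_dvd_of_pow_eq_one hg2

example : ∀ (G : Type u) [Group G] [Finite G] (m : ℕ), 1 ≤ m → StArCop → HQuarter G m →
    HSyl G (kk m) →
    ∀ A₁ : Subgroup G, IsCyclic ↥A₁ → Nat.card ↥A₁ = kk m →
      ∀ g ∈ GamSet G (kk m), orderOf g ∣ (qq m + 1) / 2 :=
  gamOrd.{u}

end Cfsg.Agent.H63.S9
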