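import Cfsg.Agent.H63.SocleLite

set_option autoImplicit false

namespace Cfsg.Agent.H63

open MulAction

section

variable {G Ω : Type*} [Group G] [MulAction G Ω]

/-- Dichotomy for a minimal normal subgroup `T` of the transitive normal subgroup `N = T × C`:
either some `t ∈ T` has all `t * c` (`c ∈ C`) fixed-point-free, or `T` meets the point
stabilizer trivially. -/
theorem IsMinNormalIn.derangement_dichotomy [Finite G] [FaithfulSMul G Ω] {N T : Subgroup G}
    [hNn : N.Normal] [IsPretransitive N Ω] (hT : IsMinNormalIn T N)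
    (hdec : ∀ n ∈ N, ∃ t ∈ T, ∃ c ∈ Subgroup.centralizer (T : Set G) ⊓ N, n = t * c)
    (α : Ω) :
    (∃ t ∈ T, ∀ c ∈ Subgroup.centralizer (T : Set G) ⊓ N, ∀ ω : Ω, (t * c) • ω ≠ ω) ∨
      T ⊓ stabilizer G α = ⊥ := by
  classical
  set C := Subgroup.centralizer (T : Set G) ⊓ N with hC
  have hcommTC : ∀ t ∈ T, ∀ c ∈ C, t * c = c * t := fun t ht c hc =>
    Subgroup.mem_centralizer_iff.mp (Subgroup.mem_inf.mp hc).1 t ht
  by_cases hP1 : ∃ t ∈ T, ∀ t' ∈ T, ∀ c ∈ C, (t' * t * t'⁻¹) * c ∉ stabilizer G α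
  · left
    obtain ⟨t, ht, hP⟩ := hP1
    refine ⟨t, ht, ?_⟩
    intro s hsC ω hω
    obtain ⟨n, hn, hmem⟩ := exists_conj_mem_stabilizer N α hω
    obtain ⟨t', ht', c', hc', rfl⟩ := hdec n hn
    apply hP t'⁻¹ (T.inv_mem ht') (c'⁻¹ * s * c')
      (C.mul_mem (C.mul_mem (C.inv_mem hc') hsC) hc')
    have e3 : t' * s = s * t' := hcommTC t' ht' s hsC
    have e4 : t'⁻¹ * c'⁻¹ = c'⁻¹ * t'⁻¹ :=
      hcommTC t'⁻¹ (T.inv_mem ht') c'⁻¹ (C.inv_mem hc')
    have key : (t' * c')⁻¹ * (t * s) * (t' * c') = t'⁻¹ * t * t'⁻¹⁻¹ * (c'⁻¹ * s * c') := by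
      rw [mul_inv_rev, inv_inv]
      calc c'⁻¹ * t'⁻¹ * (t * s) * (t' * c')
          = c'⁻¹ * t'⁻¹ * t * (s * t') * c' := by group
        _ = c'⁻¹ * t'⁻¹ * t * (t' * s) * c' := by rw [e3]
        _ = (c'⁻¹ * t'⁻¹) * (t * t') * (s * c') := by group
        _ = (t'⁻¹ * c'⁻¹) * (t * t') * (s * c') := by rw [e4]
        _ = t'⁻¹ * (c'⁻¹ * (t * t')) * (s * c') := by group
        _ = t'⁻¹ * ((t * t') * c'⁻¹) * (s * c') := by
            rw [hcommTC (t * t') (T.mul_mem ht ht') c'⁻¹ (C.inv_mem hc')]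
        _ = t'⁻¹ * t * t' * (c'⁻¹ * s * c') := by group
    rw [← key]
    exact hmem
  · right
    push Not at hP1
    let R : Subgroup G :=
      { carrier := {t | t ∈ T ∧ ∃ c ∈ C, t * c ∈ stabilizer G α}
        one_mem' := ⟨T.one_mem, 1, C.one_mem, by simp⟩
        mul_mem' := by
          rintro x y ⟨hx, c, hc, hxc⟩ ⟨hy, d, hd, hyd⟩
          refine ⟨T.mul_mem hx hy, c * d, C.mul_mem hc hd, ?_⟩
          have e : x * y * (c * d) = (x * c) * (y * d) := by
            have := hcommTC y hy c hc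
            calc x * y * (c * d) = x * (y * c) * d := by group
              _ = x * (c * y) * d := by rw [this]
              _ = (x * c) * (y * d) := by group
          rw [e]
          exact (stabilizer G α).mul_mem hxc hyd
        inv_mem' := by
          rintro x ⟨hx, c, hc, hxc⟩
          refine ⟨T.inv_mem hx, c⁻¹, C.inv_mem hc, ?_⟩
          have e : x⁻¹ * c⁻¹ = (x * c)⁻¹ := by
            rw [mul_inv_rev]
            exact hcommTC x⁻¹ (T.inv_mem hx) c⁻¹ (C.inv_mem hc)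
          rw [e]
          exact (stabilizer G α).inv_mem hxc }
    have hRT : R.subgroupOf T = ⊤ := by
      apply jordan_conj
      intro x
      obtain ⟨t', ht', c, hc, hmem⟩ := hP1 x x.2
      refine ⟨⟨t', ht'⟩, ?_⟩
      rw [Subgroup.mem_subgroupOf]
      exact ⟨T.mul_mem (T.mul_mem ht' x.2) (T.inv_mem ht'), c, hc, hmem⟩
    have hTR : T ≤ R := Subgroup.subgroupOf_eq_top.mp hRT
    have hMn : Nzes N (T ⊓ stabilizer G α) := by
      intro n hn u hu
      obtain ⟨hu1, hu2⟩ := Subgroup.mem_inf.mp hu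
      obtain ⟨t, ht, c, hc, rfl⟩ := hdec n hn
      obtain ⟨-, c₁, hc₁, hmem⟩ := hTR ht
      have e1 : t * c * u * (t * c)⁻¹ = t * u * t⁻¹ := by
        have := hcommTC u hu1 c hc
        calc t * c * u * (t * c)⁻¹ = t * (c * u) * c⁻¹ * t⁻¹ := by group
          _ = t * (u * c) * c⁻¹ * t⁻¹ := by rw [this]
          _ = t * u * t⁻¹ := by group
      have e2 : (t * c₁) * u * (t * c₁)⁻¹ = t * u * t⁻¹ := by
        have := hcommTC u hu1 c₁ hc₁
        calc t * c₁ * u * (t * c₁)⁻¹ = t * (c₁ * u) * c₁⁻¹ * t⁻¹ := by group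
          _ = t * (u * c₁) * c₁⁻¹ * t⁻¹ := by rw [this]
          _ = t * u * t⁻¹ := by group
      rw [e1]
      refine Subgroup.mem_inf.mpr ⟨T.mul_mem (T.mul_mem ht hu1) (T.inv_mem ht), ?_⟩
      rw [← e2]
      exact (stabilizer G α).mul_mem ((stabilizer G α).mul_mem hmem hu2)
        ((stabilizer G α).inv_mem hmem)
    rcases hT.2.2.2 _ inf_le_left hMn with hbot | htop
    · exact hbot
    · exfalso
      apply hT.1
      rw [Subgroup.eq_bot_iff_forall]
      intro t ht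
      apply FaithfulSMul.eq_of_smul_eq_smul (α := Ω)
      intro ω
      rw [one_smul]
      obtain ⟨n, rfl⟩ := exists_smul_eq N α ω
      have h1 : (n : G)⁻¹ * t * n ∈ T := by
        have := hT.2.2.1 (n : G)⁻¹ (N.inv_mem n.2) t ht
        simpa using this
      have h2 : (n : G)⁻¹ * t * n ∈ stabilizer G α := by
        have : (n : G)⁻¹ * t * n ∈ T ⊓ stabilizer G α := by rw [htop]; exact h1
        exact (Subgroup.mem_inf.mp this).2
      rw [mem_stabilizer_iff, mul_smul, mul_smul] at h2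
      have h3 := congrArg (fun z => (n : G) • z) h2
      simp only [smul_inv_smul] at h3
      exact h3

/-- Three pairwise non-conjugate derangements from `t ∈ T` with all `t * c` fixed-point-free and
a nonidentity element of `T` with a fixed point. -/
theorem IsMinNormalIn.three_of_mixed {N T : Subgroup G} [hNn : N.Normal]
    (hT : IsMinNormalIn T N)
    (hTC : T ⊓ (Subgroup.centralizer (T : Set G) ⊓ N) = ⊥)
    (g : G) (hg : Cfsg.Agent.H63.conjSub g T ≠ T) (t : G) (ht : t ∈ T)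
    (hd : ∀ c ∈ Subgroup.centralizer (T : Set G) ⊓ N, ∀ ω : Ω, (t * c) • ω ≠ ω)
    (t₀ : G) (ht₀ : t₀ ∈ T) (ht₀1 : t₀ ≠ 1) (α : Ω) (hα : t₀ • α = α) :
    ∃ x₁ x₂ x₃ : G, (∀ ω : Ω, x₁ • ω ≠ ω) ∧ (∀ ω : Ω, x₂ • ω ≠ ω) ∧ (∀ ω : Ω, x₃ • ω ≠ ω) ∧
      ¬ IsConj x₁ x₂ ∧ ¬ IsConj x₁ x₃ ∧ ¬ IsConj x₂ x₃ := by
  set C := Subgroup.centralizer (T : Set G) ⊓ N with hC
  have hcommTC : ∀ t ∈ T, ∀ c ∈ C, t * c = c * t := fun t ht c hc =>
    Subgroup.mem_centralizer_iff.mp (Subgroup.mem_inf.mp hc).1 t ht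
  have hT'C : Cfsg.Agent.H63.conjSub g T ≤ C := (hT.conj_eq_or_le g).resolve_left hg
  have htd : ∀ ω : Ω, t • ω ≠ ω := by
    have := hd 1 C.one_mem
    simpa using this
  have ht1 : t ≠ 1 := by
    intro h
    apply htd α
    rw [h, one_smul]
  -- the invariant `U`: lying in a conjugate of `T`
  let U : G → Prop := fun x => ∃ g' : G, x ∈ Cfsg.Agent.H63.conjSub g' T
  have hU : ∀ k x : G, U x → U (k * x * k⁻¹) := by
    rintro k x ⟨g', hx⟩
    refine ⟨k * g', ?_⟩
    rw [conjSub_mul]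
    exact conj_mem_conjSub hx
  have hUt : U t := ⟨1, by rw [conjSub_one]; exact ht⟩
  have hnU : ∀ c ∈ C, c ≠ 1 → ¬ U (t * c) := by
    rintro c hc hc1 ⟨g', hx⟩
    rcases hT.conj_eq_or_le g' with he | hle
    · rw [he] at hx
      have hcT : c ∈ T := by
        have := T.mul_mem (T.inv_mem ht) hx
        simpa using this
      have : c ∈ T ⊓ C := Subgroup.mem_inf.mpr ⟨hcT, hc⟩
      rw [hTC, Subgroup.mem_bot] at this
      exact hc1 this
    · have hx' : t * c ∈ C := hle hx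
      have htC : t ∈ C := by
        have := C.mul_mem hx' (C.inv_mem hc)
        simpa using this
      have : t ∈ T ⊓ C := Subgroup.mem_inf.mpr ⟨ht, htC⟩
      rw [hTC, Subgroup.mem_bot] at this
      exact ht1 this
  -- the invariant `P`: product of two derangements from distinct conjugates of `T`
  let P : G → Prop := fun x => ∃ g₁ g₂ u v : G, u ∈ Cfsg.Agent.H63.conjSub g₁ T ∧
    v ∈ Cfsg.Agent.H63.conjSub g₂ T ∧
    Cfsg.Agent.H63.conjSub g₁ T ≠ Cfsg.Agent.H63.conjSub g₂ T ∧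
    (∀ ω : Ω, u • ω ≠ ω) ∧ (∀ ω : Ω, v • ω ≠ ω) ∧ x = u * v
  have hder_conj : ∀ k u : G, (∀ ω : Ω, u • ω ≠ ω) → ∀ ω : Ω, (k * u * k⁻¹) • ω ≠ ω := by
    intro k u hu ω hω
    apply hu (k⁻¹ • ω)
    rw [mul_smul, mul_smul] at hω
    have := congrArg (fun z => k⁻¹ • z) hω
    simpa using this
  have hP : ∀ k x : G, P x → P (k * x * k⁻¹) := by
    rintro k x ⟨g₁, g₂, u, v, hu, hv, hne, hud, hvd, rfl⟩
    refine ⟨k * g₁, k * g₂, k * u * k⁻¹, k * v * k⁻¹, ?_, ?_, ?_, hder_conj k u hud,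
      hder_conj k v hvd, by group⟩
    · rw [conjSub_mul]; exact conj_mem_conjSub hu
    · rw [conjSub_mul]; exact conj_mem_conjSub hv
    · rw [conjSub_mul, conjSub_mul]
      exact fun h => hne (conjSub_injective k h)
  set t' := g * t * g⁻¹ with ht'
  have ht'C : t' ∈ C := hT'C (conj_mem_conjSub ht)
  have ht'd : ∀ ω : Ω, t' • ω ≠ ω := hder_conj g t htd
  have ht'1 : t' ≠ 1 := by
    intro h
    apply ht'd α
    rw [h, one_smul]
  set c₀ := g * t₀ * g⁻¹ with hc₀
  have hc₀C : c₀ ∈ C := hT'C (conj_mem_conjSub ht₀)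
  have hc₀1 : c₀ ≠ 1 := by
    intro h
    apply ht₀1
    have := congrArg (fun z => g⁻¹ * z * g) h
    simpa [hc₀, mul_assoc] using this
  have hc₀fix : c₀ • (g • α) = g • α := by
    rw [hc₀, mul_smul, mul_smul, inv_smul_smul, hα]
  have hPx₂ : P (t * t') :=
    ⟨1, g, t, t', by rw [conjSub_one]; exact ht, conj_mem_conjSub ht,
      by rw [conjSub_one]; exact fun h => hg h.symm, htd, ht'd, rfl⟩
  have hnPx₃ : ¬ P (t * c₀) := by
    rintro ⟨g₁, g₂, u, v, hu, hv, hne, hud, hvd, he⟩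
    rcases hT.conj_eq_or_le g₁ with h1 | h1
    · rw [h1] at hu hne
      have hvC : v ∈ C := ((hT.conj_eq_or_le g₂).resolve_left (fun h => hne h.symm)) hv
      have := (eq_and_eq_of_mul_eq_mul hTC ht hu hc₀C hvC he).2
      rw [← this] at hvd
      exact hvd _ hc₀fix
    · have huC : u ∈ C := h1 hu
      rcases hT.conj_eq_or_le g₂ with h2 | h2
      · rw [h2] at hv
        have he' : t * c₀ = v * u := by rw [he]; exact (hcommTC v hv u huC).symm
        have := (eq_and_eq_of_mul_eq_mul hTC ht hv hc₀C huC he').2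
        rw [← this] at hud
        exact hud _ hc₀fix
      · have hvC : v ∈ C := h2 hv
        have htC : t ∈ C := by
          have h3 : t = u * v * c₀⁻¹ := by rw [← he]; group
          rw [h3]
          exact C.mul_mem (C.mul_mem huC hvC) (C.inv_mem hc₀C)
        have : t ∈ T ⊓ C := Subgroup.mem_inf.mpr ⟨ht, htC⟩
        rw [hTC, Subgroup.mem_bot] at this
        exact ht1 this
  refine ⟨t, t * t', t * c₀, htd, hd t' ht'C, hd c₀ hc₀C, ?_, ?_, ?_⟩
  · exact not_isConj_of_pred U hU hUt (hnU t' ht'C ht'1)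
  · exact not_isConj_of_pred U hU hUt (hnU c₀ hc₀C hc₀1)
  · exact not_isConj_of_pred P hP hPx₂ hnPx₃

/-- A faithful primitive finite group with a nonabelian minimal normal subgroup which is not
almost simple has at least three conjugacy classes of derangements. -/
theorem three_derangement_classes_of_nonabelian [Finite G] [FaithfulSMul G Ω]
    [IsPreprimitive G Ω]
    (hnas : ¬ ∃ T : Subgroup G, T.Normal ∧ IsSimpleGroup T ∧ ¬ IsMulCommutative T ∧
      Subgroup.centralizer (T : Set G) = ⊥)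
    (N : Subgroup G) [hNn : N.Normal] (hN1 : N ≠ ⊥)
    (hNmin : ∀ M : Subgroup G, M.Normal → M ≤ N → M = ⊥ ∨ M = N)
    (hnab : ¬ ∀ x ∈ N, ∀ y ∈ N, x * y = y * x) :
    ∃ x₁ x₂ x₃ : G, (∀ ω : Ω, x₁ • ω ≠ ω) ∧ (∀ ω : Ω, x₂ • ω ≠ ω) ∧ (∀ ω : Ω, x₃ • ω ≠ ω) ∧
      ¬ IsConj x₁ x₂ ∧ ¬ IsConj x₁ x₃ ∧ ¬ IsConj x₂ x₃ := by
  classical
  have hNt : IsPretransitive N Ω := normal_pretransitive N hN1
  have hZ := center_trivial_of_min_normal hNmin hnab
  obtain ⟨T, hT⟩ := exists_isMinNormalIn N hN1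
  have hdec := hT.decomp hNmin
  have hTC := inf_centralizer_eq_bot hdec hZ hT.2.1
  set C := Subgroup.centralizer (T : Set G) ⊓ N with hC
  have hcommTC : ∀ t ∈ T, ∀ c ∈ C, t * c = c * t := fun t ht c hc =>
    Subgroup.mem_centralizer_iff.mp (Subgroup.mem_inf.mp hc).1 t ht
  have hZT : ∀ x ∈ T, (∀ t ∈ T, t * x = x * t) → x = 1 := by
    intro x hx hxc
    have : x ∈ T ⊓ C :=
      Subgroup.mem_inf.mpr ⟨hx, Subgroup.mem_inf.mpr ⟨Subgroup.mem_centralizer_iff.mpr hxc, hT.2.1 hx⟩⟩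
    rw [hTC] at this
    exact Subgroup.mem_bot.mp this
  by_cases hTN : T = N
  · subst hTN
    have hsimple : IsSimpleGroup T := isSimpleGroup_of_isMinNormalIn_self hT
    have hnc : ¬ IsMulCommutative T := by
      intro hcomm
      apply hnab
      intro x hx y hy
      have := isMulCommutative_iff.mp hcomm ⟨x, hx⟩ ⟨y, hy⟩
      exact congrArg Subtype.val this
    have hK : Subgroup.centralizer (T : Set G) ≠ ⊥ := fun h => hnas ⟨T, hNn, hsimple, hnc, h⟩
    have hreg : ∀ a : Ω, stabilizer T a = ⊥ :=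
      fun a => stabilizer_eq_bot_of_centralizer_ne_bot T hK a
    have hder : ∀ t ∈ T, t ≠ 1 → ∀ ω : Ω, t • ω ≠ ω := by
      intro t ht ht1 ω hω
      have : (⟨t, ht⟩ : T) ∈ stabilizer T ω := hω
      rw [hreg ω, Subgroup.mem_bot] at this
      exact ht1 (congrArg Subtype.val this)
    have hKcard : Nat.card (Subgroup.centralizer (T : Set G)) ≠ 1 :=
      fun h => hK (Subgroup.card_eq_one.mp h)
    obtain ⟨r, hr, hrK⟩ := Nat.exists_prime_and_dvd hKcard
    have : Fact r.Prime := ⟨hr⟩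
    obtain ⟨s, hs⟩ := exists_prime_orderOf_dvd_card' r hrK
    have hso : orderOf (s : G) = r := by rw [Subgroup.orderOf_coe, hs]
    exact three_of_orders T hT.1 hZT hder (s : G) r hr hso
      (fun t ht => Subgroup.mem_centralizer_iff.mp s.2 t ht)
  · obtain ⟨g, hg⟩ := hT.exists_conj_ne hNmin hTN
    have hT'C : conjSub g T ≤ C := (hT.conj_eq_or_le g).resolve_left hg
    by_cases hall : ∀ t ∈ T, t ≠ 1 → ∀ ω : Ω, t • ω ≠ ω
    · have h2 : Fact (Nat.Prime 2) := ⟨Nat.prime_two⟩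
      obtain ⟨t₁, ht₁, r, hr, -, ht₁o⟩ := exists_prime_order_ne T hT.1 hZT 2
      have hso : orderOf (g * t₁ * g⁻¹) = r := by
        rw [← ht₁o]
        exact (MulAut.conj g).orderOf_eq t₁
      exact three_of_orders T hT.1 hZT hall (g * t₁ * g⁻¹) r hr hso
        (fun t ht => hcommTC t ht _ (hT'C (conj_mem_conjSub ht₁)))
    · push Not at hall
      obtain ⟨t₀, ht₀, ht₀1, α, hα⟩ := hall
      rcases hT.derangement_dichotomy hdec α with ⟨t, ht, hd⟩ | hbot
      · exact hT.three_of_mixed hTC g hg t ht hd t₀ ht₀ ht₀1 α hα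
      · exfalso
        have : t₀ ∈ T ⊓ stabilizer G α := Subgroup.mem_inf.mpr ⟨ht₀, hα⟩
        rw [hbot, Subgroup.mem_bot] at this
        exact ht₀1 this

end

end Cfsg.Agent.H63
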