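import Mathlib
import Cfsg.Agent.H52.SpDefs

/-!
# SP-NORMB (piece of S2944): if `K^n ≤ K C` then `K^n ≤ K`

Route: `A₀ := ⟨odd-order elements of M⟩` is normal, abelian modulo `Q`, and `M / A₀` is a
2-group.  For `k' ∈ K^n` write `k' = k c` (`k ∈ K`, `c ∈ C`); the image of `c` in `X / Q` is a
central element of `M Q / Q` of odd order lying in the commutator subgroup and in the abelian
subgroup `A₀ Q / Q` of 2-power index: by transfer it is trivial, so `c ∈ Q`.  Finally an element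
`k q` (`q ∈ Q ≤ N(K)`) of odd order lies in `K`.
-/

set_option autoImplicit false
open Cfsg

namespace Cfsg.Agent.H63.Sp

open Cfsg.Agent.H52.Sn

universe u

/-- Transfer: a central element of odd order in the commutator subgroup is trivial when there is
an abelian subgroup of 2-power index. -/
theorem transfer_central {G : Type u} [Group G] [Finite G] (H : Subgroup G)
    (hHc : ∀ a ∈ H, ∀ b ∈ H, a * b = b * a) (e : ℕ) (hidx : H.index = 2 ^ e)
    (c : G) (hcZ : ∀ g : G, c * g = g * c) (hcomm : c ∈ commutator G)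
    (m : ℕ) (hm : Odd m) (hcm : c ^ m = 1) : c = 1 := by
  classical
  let _ : CommGroup ↥H := { (inferInstance : Group ↥H) with
    mul_comm := fun a b => Subtype.ext (hHc a a.2 b b.2) }
  have : H.FiniteIndex := ⟨by rw [hidx]; positivity⟩
  have key : ∀ (k : ℕ) (g₀ : G), g₀⁻¹ * c ^ k * g₀ ∈ H → g₀⁻¹ * c ^ k * g₀ = c ^ k := by
    intro k g₀ _
    have h1 : Commute c g₀ := hcZ g₀
    have h2 : c ^ k * g₀ = g₀ * c ^ k := (h1.pow_left k).eq
    rw [mul_assoc, h2, inv_mul_cancel_left]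
  have h1 := MonoidHom.transfer_eq_pow (MonoidHom.id ↥H) c key
  have h2 : MonoidHom.transfer (MonoidHom.id ↥H) c = 1 :=
    Abelianization.commutator_subset_ker (MonoidHom.transfer (MonoidHom.id ↥H)) hcomm
  rw [h2] at h1
  have h3 : c ^ H.index = 1 := by
    have h4 := congrArg Subtype.val h1
    simpa using h4.symm
  rw [hidx] at h3
  have h4 : c ^ Nat.gcd (2 ^ e) m = 1 := pow_gcd_eq_one.mpr ⟨h3, hcm⟩
  have h5 : Nat.gcd (2 ^ e) m = 1 := Nat.Coprime.pow_left e (Nat.coprime_two_left.mpr hm)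
  rw [h5, pow_one] at h4
  exact h4

/-- The same inside a subgroup `M'` with an abelian normal subgroup `A'` such that `M' / A'` is a
2-group. -/
theorem sub_central {G' : Type u} [Group G'] [Finite G'] (M' A' : Subgroup G') [A'.Normal]
    (hAc : ∀ a ∈ A', ∀ b ∈ A', a * b = b * a)
    (h2 : ∀ g ∈ M', ∃ k : ℕ, g ^ 2 ^ k ∈ A')
    (c : G') (hcM : c ∈ M') (hcZ : ∀ g ∈ M', c * g = g * c) (hcc : c ∈ ⁅M', M'⁆)
    (m : ℕ) (hm : Odd m) (hcm : c ^ m = 1) : c = 1 := by
  have : Fact (Nat.Prime 2) := ⟨Nat.prime_two⟩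
  have hP : IsPGroup 2 (↥M' ⧸ A'.subgroupOf M') := by
    intro q
    induction q using QuotientGroup.induction_on with
    | H g =>
      obtain ⟨k, hk⟩ := h2 g g.2
      refine ⟨k, ?_⟩
      rw [← QuotientGroup.mk_pow, QuotientGroup.eq_one_iff, Subgroup.mem_subgroupOf]
      simpa using hk
  obtain ⟨e, he⟩ := IsPGroup.iff_card.mp hP
  have hidx : (A'.subgroupOf M').index = 2 ^ e := by rw [Subgroup.index_eq_card]; exact he
  have hc1 : (⟨c, hcM⟩ : ↥M') = 1 := by
    apply transfer_central (A'.subgroupOf M') ?_ e hidx ⟨c, hcM⟩ ?_ ?_ m hm ?_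
    · intro a ha b hb
      apply Subtype.ext
      exact hAc a (Subgroup.mem_subgroupOf.mp ha) b (Subgroup.mem_subgroupOf.mp hb)
    · intro g
      apply Subtype.ext
      exact hcZ g g.2
    · rw [← Subgroup.map_subtype_commutator] at hcc
      obtain ⟨y, hy, hyc⟩ := hcc
      have hy2 : y = ⟨c, hcM⟩ := Subtype.ext hyc
      rw [← hy2]
      exact hy
    · apply Subtype.ext
      simpa using hcm
  exact congrArg Subtype.val hc1

/-- If `q` normalizes `K`, then `(k q)^i ∈ K q^i`. -/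
theorem mul_pow_mem {X : Type u} [Group X] (K : Subgroup X) (k q : X) (hk : k ∈ K)
    (hq : ∀ i : ℕ, ∀ x ∈ K, q ^ i * x * (q ^ i)⁻¹ ∈ K) (i : ℕ) :
    (k * q) ^ i * (q ^ i)⁻¹ ∈ K := by
  induction i with
  | zero => simp
  | succ i ih =>
    have h1 : (k * q) ^ (i + 1) * (q ^ (i + 1))⁻¹ =
        ((k * q) ^ i * (q ^ i)⁻¹) * (q ^ i * k * (q ^ i)⁻¹) := by
      rw [pow_succ, pow_succ]
      group
    rw [h1]
    exact mul_mem ih (hq i k hk)

theorem normB : StNormB.{u} := by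
  intro X _ _ C Q M J K n hC hQ hM hQ2 hCM hcomm hJM hKJ hKgen hQK hn
  classical
  have hKM : K ≤ M := by
    rw [← hKJ]
    exact (Subgroup.commutator_mono le_rfl hJM).trans (Subgroup.commutator_le_right K M)
  -- the odd-order elements of `M`
  set S : Set X := {g : X | g ∈ M ∧ Odd (orderOf g)} with hS
  have hSconj : ∀ g ∈ S, ∀ x : X, x * g * x⁻¹ ∈ S := by
    intro g hg x
    refine ⟨hM.conj_mem g hg.1 x, ?_⟩
    have h1 : orderOf ((MulAut.conj x) g) = orderOf g := MulEquiv.orderOf_eq (MulAut.conj x) g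
    rw [MulAut.conj_apply] at h1
    rw [h1]
    exact hg.2
  have hA₀eq : Subgroup.closure S = Subgroup.normalClosure S := by
    refine le_antisymm Subgroup.closure_le_normalClosure ?_
    unfold Subgroup.normalClosure
    refine Subgroup.closure_mono ?_
    intro x hx
    obtain ⟨a, ha, hax⟩ := Group.mem_conjugatesOfSet_iff.mp hx
    obtain ⟨c, hc⟩ := isConj_iff.mp hax
    rw [← hc]
    exact hSconj a ha c
  have hA₀n : (Subgroup.closure S).Normal := by
    rw [hA₀eq]
    exact Subgroup.normalClosure_normal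
  have hA₀M : Subgroup.closure S ≤ M := (Subgroup.closure_le M).mpr (fun g hg => hg.1)
  have hKA₀ : K ≤ Subgroup.closure S := by
    rw [← hKgen]
    exact Subgroup.closure_mono (fun g hg => ⟨hKM hg.1, hg.2⟩)
  -- the quotient by `Q`
  let π : X →* X ⧸ Q := QuotientGroup.mk' Q
  have hπ1 : ∀ x : X, π x = 1 ↔ x ∈ Q := fun x => QuotientGroup.eq_one_iff x
  have hπcomm : ∀ x y : X, x * y * x⁻¹ * y⁻¹ ∈ Q → π x * π y = π y * π x := by
    intro x y h
    have h1 := (hπ1 _).mpr h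
    rw [map_mul, map_mul, map_mul, map_inv, map_inv] at h1
    have h2 : π x * π y = (π x * π y * (π x)⁻¹ * (π y)⁻¹) * (π y * π x) := by group
    rw [h2, h1, one_mul]
  -- `A' = A₀ Q / Q` is abelian
  have hA'eq : (Subgroup.closure S).map π = Subgroup.closure (π '' S) := MonoidHom.map_closure π S
  have hScomm : ∀ x ∈ π '' S, ∀ y ∈ π '' S, x * y = y * x := by
    rintro _ ⟨x, hx, rfl⟩ _ ⟨y, hy, rfl⟩
    exact hπcomm x y (hcomm x hx.1 y hy.1 hx.2 hy.2)
  have hA'c : ∀ a ∈ (Subgroup.closure S).map π, ∀ b ∈ (Subgroup.closure S).map π,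
      a * b = b * a := by
    rw [hA'eq]
    intro a ha b hb
    have h1 : (⟨a, ha⟩ : ↥(Subgroup.closure (π '' S))) * ⟨b, hb⟩ = ⟨b, hb⟩ * ⟨a, ha⟩ :=
      (Subgroup.isMulCommutative_closure hScomm).is_comm.comm _ _
    exact congrArg Subtype.val h1
  have hA'n : ((Subgroup.closure S).map π).Normal :=
    hA₀n.map π (QuotientGroup.mk'_surjective Q)
  -- a uniform odd exponent
  obtain ⟨k₀, mm, hmm, hcard⟩ := Nat.exists_eq_two_pow_mul_odd (Nat.card_pos (α := X)).ne'
  have hSpow : ∀ x ∈ S, x ^ mm = 1 := by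
    intro x hx
    have h1 : orderOf x ∣ 2 ^ k₀ * mm := by
      rw [← hcard]
      exact orderOf_dvd_natCard x
    have h2 : Nat.Coprime (orderOf x) (2 ^ k₀) :=
      Nat.Coprime.pow_right k₀ (Nat.coprime_two_right.mpr hx.2)
    exact orderOf_dvd_iff_pow_eq_one.mp (h2.dvd_of_dvd_mul_left h1)
  have hA'pow : ∀ a ∈ (Subgroup.closure S).map π, a ^ mm = 1 := by
    rw [hA'eq]
    intro a ha
    induction ha using Subgroup.closure_induction with
    | mem y hy =>
      obtain ⟨x, hx, rfl⟩ := hy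
      rw [← map_pow, hSpow x hx, map_one]
    | one => exact one_pow _
    | mul a b ha hb iha ihb =>
      have hc : Commute a b := by
        have := hA'c a (hA'eq ▸ ha) b (hA'eq ▸ hb)
        exact this
      rw [hc.mul_pow, iha, ihb, one_mul]
    | inv a _ iha => rw [inv_pow, iha, inv_one]
  -- `M / A₀` is a 2-group
  have h2grp : ∀ g ∈ M.map π, ∃ k : ℕ, g ^ 2 ^ k ∈ (Subgroup.closure S).map π := by
    rintro _ ⟨x, hx, rfl⟩
    obtain ⟨k, r, hr, hkr⟩ := Nat.exists_eq_two_pow_mul_odd (orderOf_pos x).ne'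
    refine ⟨k, ?_⟩
    rw [← map_pow]
    refine Subgroup.mem_map_of_mem π (Subgroup.subset_closure ⟨pow_mem hx _, ?_⟩)
    have h1 : (x ^ 2 ^ k) ^ r = 1 := by
      rw [← pow_mul, ← hkr, pow_orderOf_eq_one]
    exact Odd.of_dvd_nat hr (orderOf_dvd_of_pow_eq_one h1)
  -- the key step: `K^n ≤ K ⊔ Q`
  have hcommMM : (⁅M, M⁆ : Subgroup X).Normal := inferInstance
  have hkey : ∀ k' ∈ K.map (MulAut.conj n).toMonoidHom, ∃ k ∈ K, ∃ q ∈ Q, k' = k * q := by
    intro k' hk'
    obtain ⟨k, hk, c, hc, hkc⟩ := Subgroup.mem_sup_of_normal_right.mp (hn hk')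
    refine ⟨k, hk, c, ?_, hkc.symm⟩
    obtain ⟨k₁, hk₁, hk₁'⟩ := hk'
    have hk'eq : k' = n * k₁ * n⁻¹ := by
      rw [← hk₁']
      rfl
    have hc_eq : c = k⁻¹ * k' := by rw [← hkc]; group
    have hk'A : k' ∈ Subgroup.closure S := by
      rw [hk'eq]
      exact hA₀n.conj_mem k₁ (hKA₀ hk₁) n
    have hcA : c ∈ Subgroup.closure S := by
      rw [hc_eq]
      exact mul_mem (inv_mem (hKA₀ hk)) hk'A
    have hKcomm : K ≤ ⁅M, M⁆ := by
      rw [← hKJ]
      exact Subgroup.commutator_mono hKM hJM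
    have hk'c : k' ∈ ⁅M, M⁆ := by
      rw [hk'eq]
      exact hcommMM.conj_mem k₁ (hKcomm hk₁) n
    have hcc : c ∈ ⁅M, M⁆ := by
      rw [hc_eq]
      exact mul_mem (inv_mem (hKcomm hk)) hk'c
    have hπc : π c = 1 := by
      apply sub_central (M.map π) ((Subgroup.closure S).map π) hA'c h2grp (π c)
        (Subgroup.mem_map_of_mem π (hA₀M hcA)) ?_ ?_ mm hmm
        (hA'pow _ (Subgroup.mem_map_of_mem π hcA))
      · rintro _ ⟨x, hx, rfl⟩
        apply hπcomm
        have h1 := Subgroup.commutator_mem_commutator hc hx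
        rw [commutatorElement_def] at h1
        exact hCM h1
      · rw [← Subgroup.map_commutator]
        exact Subgroup.mem_map_of_mem π hcc
    exact (hπ1 c).mp hπc
  -- conclusion
  have hKn : K.map (MulAut.conj n).toMonoidHom =
      Subgroup.closure ((MulAut.conj n).toMonoidHom '' {g : X | g ∈ K ∧ Odd (orderOf g)}) := by
    conv_lhs => rw [← hKgen]
    exact MonoidHom.map_closure _ _
  rw [hKn]
  refine (Subgroup.closure_le K).mpr ?_
  rintro _ ⟨g, hg, rfl⟩
  have hgK' : (MulAut.conj n).toMonoidHom g ∈ K.map (MulAut.conj n).toMonoidHom :=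
    Subgroup.mem_map_of_mem _ hg.1
  obtain ⟨k, hk, q, hq, hkq⟩ := hkey _ hgK'
  have hord : orderOf ((MulAut.conj n).toMonoidHom g) = orderOf g :=
    MulEquiv.orderOf_eq (MulAut.conj n) g
  set g' := (MulAut.conj n).toMonoidHom g with hg'
  have hodd : Odd (orderOf g') := by rw [hord]; exact hg.2
  -- `q` has 2-power order
  obtain ⟨j, hj⟩ := hQ2 ⟨q, hq⟩
  have hqj : q ^ 2 ^ j = 1 := by
    have := congrArg Subtype.val hj
    simpa using this
  have hqn : ∀ i : ℕ, ∀ x ∈ K, q ^ i * x * (q ^ i)⁻¹ ∈ K := by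
    intro i x hx
    have h1 : q ^ i ∈ Subgroup.normalizer (K : Set X) := hQK (pow_mem hq i)
    exact (Subgroup.mem_normalizer_iff.mp h1 x).mp hx
  have h1 : g' ^ 2 ^ j ∈ K := by
    have h2 := mul_pow_mem K k q hk hqn (2 ^ j)
    rw [hqj, inv_one, mul_one, ← hkq] at h2
    exact h2
  -- Bezout
  have hcop : Nat.Coprime (2 ^ j) (orderOf g') :=
    Nat.Coprime.pow_left j (Nat.coprime_two_left.mpr hodd)
  have h3 : g' ^ (Nat.gcd (2 ^ j) (orderOf g') : ℤ) ∈ K := by
    rw [Nat.gcd_eq_gcd_ab, zpow_add, zpow_mul, zpow_mul, zpow_natCast, zpow_natCast,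
      pow_orderOf_eq_one, one_zpow, mul_one]
    exact zpow_mem h1 _
  rw [hcop] at h3
  simpa using h3

end Cfsg.Agent.H63.Sp

universe u in
example : Cfsg.Agent.H52.Sn.StNormB.{u} := Cfsg.Agent.H63.Sp.normB.{u}
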