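import Cfsg.Agent.H64.TtDefs

/-!
# TT-C6 (helper63, for helper64's project S3385): the case `k = 6`, `λ = 4` is impossible
-/

set_option autoImplicit false

namespace Cfsg.Agent.H63.Tt

open Cfsg.Agent.H64.Tt

universe u

section Aux
variable {G : Type u} [Group G]

/-- an element commuting with the generators commutes with `X[a,b]` -/
theorem comm_X (x : ℤ → G) (y : G) (a b : ℤ)
    (h : ∀ j, a ≤ j → j ≤ b → y * x j = x j * y) : ∀ z ∈ X x a b, y * z = z * y := by
  have hle : X x a b ≤ Subgroup.centralizer {y} := by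
    rw [X_le_iff]
    intro j h1 h2
    rw [Subgroup.mem_centralizer_iff]
    intro w hw
    rw [Set.mem_singleton_iff] at hw
    subst hw
    exact h j h1 h2
  intro z hz
  have h1 := hle hz
  rw [Subgroup.mem_centralizer_iff] at h1
  exact h1 y rfl

/-- `X[a,b]` is abelian when its generators commute -/
theorem X_abel (x : ℤ → G) (a b : ℤ)
    (h : ∀ i j, a ≤ i → i ≤ b → a ≤ j → j ≤ b → x i * x j = x j * x i) :
    ∀ y ∈ X x a b, ∀ z ∈ X x a b, y * z = z * y := by
  intro y hy z hz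
  have hz' : ∀ j, a ≤ j → j ≤ b → z * x j = x j * z := by
    intro j hj1 hj2
    exact (comm_X x (x j) a b (fun i hi1 hi2 => h j i hj1 hj2 hi1 hi2) z hz).symm
  exact (comm_X x z a b hz' y hy).symm

/-- `X[a,b]` has exponent 2 when its generators are commuting involutions -/
theorem X_sq (x : ℤ → G) (a b : ℤ) (hinv : ∀ i, x i * x i = 1)
    (h : ∀ i j, a ≤ i → i ≤ b → a ≤ j → j ≤ b → x i * x j = x j * x i) :
    ∀ y ∈ X x a b, y * y = 1 := by
  intro y hy
  have hab := X_abel x a b h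
  induction hy using Subgroup.closure_induction with
  | mem w hw =>
    obtain ⟨i, -, rfl⟩ := hw
    exact hinv i
  | one => simp
  | mul u v hu hv ihu ihv =>
    have hc : u * v = v * u := hab u hu v hv
    calc u * v * (u * v) = u * (v * u) * v := by group
      _ = u * (u * v) * v := by rw [← hc]
      _ = (u * u) * (v * v) := by group
      _ = 1 := by rw [ihu, ihv, one_mul]
  | inv u hu ihu =>
    calc u⁻¹ * u⁻¹ = (u * u)⁻¹ := by group
      _ = 1 := by rw [ihu, inv_one]

theorem conj_eq_mul_comm (a b : G) (ha : a * a = 1) :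
    b * a * b⁻¹ = a * (a * b * a⁻¹ * b⁻¹) := by
  have h1 : a⁻¹ = a := inv_eq_of_mul_eq_one_right ha
  calc b * a * b⁻¹ = (a * a) * b * a⁻¹ * b⁻¹ := by rw [ha, one_mul, h1]
    _ = a * (a * b * a⁻¹ * b⁻¹) := by group

/-- `[x_i, x_(i+5)] ∈ X[i+2, i+3]` -/
theorem d_mem (x : ℤ → G) (hinv : ∀ i, x i * x i = 1)
    (hcm : ∀ i j : ℤ, |i - j| < 4 → x i * x j = x j * x i)
    (hnc : ∀ i : ℤ, x i * x (i + 4) ≠ x (i + 4) * x i)
    (C1 : ∀ a b : ℤ, a < b → b - a + 1 ≤ 6 →
      x a * x b * (x a)⁻¹ * (x b)⁻¹ ∈ X x (a + 1) (b - 1))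
    (SP : ∀ a b : ℤ, a ≤ b → b - a + 1 ≤ 6 → ∀ c ∈ X x a b,
      (c ∈ X x a (b - 1) ∨ c * x b ∈ X x a (b - 1)) ∧
      (c ∈ X x (a + 1) b ∨ x a * c ∈ X x (a + 1) b))
    (i : ℤ) : x i * x (i + 5) * (x i)⁻¹ * (x (i + 5))⁻¹ ∈ X x (i + 2) (i + 3) := by
  have haa : x i * x i = 1 := hinv i
  have hbb : x (i + 5) * x (i + 5) = 1 := hinv (i + 5)
  have hainv : (x i)⁻¹ = x i := inv_eq_of_mul_eq_one_right haa
  have hbinv : (x (i + 5))⁻¹ = x (i + 5) := inv_eq_of_mul_eq_one_right hbb
  generalize hd : x i * x (i + 5) * (x i)⁻¹ * (x (i + 5))⁻¹ = d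
  have hd1 : d ∈ X x (i + 1) (i + 4) := by
    have h := C1 i (i + 5) (by omega) (by omega)
    rw [hd, show i + 5 - 1 = i + 4 by ring] at h
    exact h
  have hgen : ∀ p q : ℤ, i + 1 ≤ p → p ≤ i + 4 → i + 1 ≤ q → q ≤ i + 4 →
      x p * x q = x q * x p := by
    intro p q h1 h2 h3 h4
    apply hcm
    rw [abs_lt]
    constructor <;> omega
  have hdd : d * d = 1 := X_sq x (i + 1) (i + 4) hinv hgen d hd1
  have hdinv : d⁻¹ = d := inv_eq_of_mul_eq_one_right hdd
  -- `x_i` commutes with `d`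
  have had : x i * d = d * x i := by
    have h1 : x i * d * (x i * d) = 1 := by
      rw [← hd]
      calc x i * (x i * x (i + 5) * (x i)⁻¹ * (x (i + 5))⁻¹) *
            (x i * (x i * x (i + 5) * (x i)⁻¹ * (x (i + 5))⁻¹))
          = (x i * x i) * x (i + 5) * (x i)⁻¹ * (x (i + 5))⁻¹ *
            ((x i * x i) * x (i + 5) * (x i)⁻¹ * (x (i + 5))⁻¹) := by group
        _ = x (i + 5) * (x i)⁻¹ * (x (i + 5))⁻¹ *
            (x (i + 5) * (x i)⁻¹ * (x (i + 5))⁻¹) := by rw [haa, one_mul]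
        _ = x (i + 5) * (x i * x i)⁻¹ * (x (i + 5))⁻¹ := by group
        _ = 1 := by rw [haa]; group
    have h2 : x i * d = (x i * d)⁻¹ := (inv_eq_of_mul_eq_one_right h1).symm
    rw [mul_inv_rev, hdinv, hainv] at h2
    exact h2
  -- `x_(i+5)` commutes with `d`
  have hbd : x (i + 5) * d = d * x (i + 5) := by
    have h1 : d * x (i + 5) * (d * x (i + 5)) = 1 := by
      rw [← hd]
      calc x i * x (i + 5) * (x i)⁻¹ * (x (i + 5))⁻¹ * x (i + 5) *
            (x i * x (i + 5) * (x i)⁻¹ * (x (i + 5))⁻¹ * x (i + 5))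
          = x i * (x (i + 5) * x (i + 5)) * (x i)⁻¹ := by group
        _ = 1 := by rw [hbb]; group
    have h2 : d * x (i + 5) = (d * x (i + 5))⁻¹ := (inv_eq_of_mul_eq_one_right h1).symm
    rw [mul_inv_rev, hdinv, hbinv] at h2
    exact h2.symm
  -- first split
  have hd2 : d ∈ X x (i + 1) (i + 3) := by
    have hs := (SP (i + 1) (i + 4) (by omega) (by omega) d hd1).1
    rw [show i + 4 - 1 = i + 3 by ring] at hs
    rcases hs with h | h
    · exact h
    · exfalso
      have hA : ∀ z ∈ X x (i + 1) (i + 3), x i * z = z * x i := by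
        apply comm_X
        intro j h1 h2
        apply hcm
        rw [abs_lt]
        constructor <;> omega
      have h3 := hA _ h
      apply hnc i
      have h4 : d * (x i * x (i + 4)) = d * (x (i + 4) * x i) := by
        calc d * (x i * x (i + 4)) = (d * x i) * x (i + 4) := by group
          _ = (x i * d) * x (i + 4) := by rw [had]
          _ = x i * (d * x (i + 4)) := by group
          _ = d * x (i + 4) * x i := h3
          _ = d * (x (i + 4) * x i) := by group
      exact mul_left_cancel h4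
  -- second split
  have hs := (SP (i + 1) (i + 3) (by omega) (by omega) d hd2).2
  rw [show i + 1 + 1 = i + 2 by ring] at hs
  rcases hs with h | h
  · exact h
  · exfalso
    have hB : ∀ z ∈ X x (i + 2) (i + 3), x (i + 5) * z = z * x (i + 5) := by
      apply comm_X
      intro j h1 h2
      apply hcm
      rw [abs_lt]
      constructor <;> omega
    have h3 := hB _ h
    have h5 := hnc (i + 1)
    rw [show i + 1 + 4 = i + 5 by ring] at h5
    apply h5
    have h4 : (x (i + 1) * x (i + 5)) * d = (x (i + 5) * x (i + 1)) * d := by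
      calc (x (i + 1) * x (i + 5)) * d = x (i + 1) * (x (i + 5) * d) := by group
        _ = x (i + 1) * (d * x (i + 5)) := by rw [hbd]
        _ = x (i + 1) * d * x (i + 5) := by group
        _ = x (i + 5) * (x (i + 1) * d) := h3.symm
        _ = (x (i + 5) * x (i + 1)) * d := by group
    exact mul_right_cancel h4

end Aux

theorem c6 (_hcard : CardStmt.{u}) (hc1 : C1Stmt.{u}) (hsplit : SplitStmt.{u})
    (hcomm : CommStmt.{u}) (hc4 : C4Stmt.{u}) : C6Stmt.{u} := by
  intro G _ _ x g T L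
  obtain ⟨hcm0, hnc0⟩ := hcomm x g 6 4 T L
  have hcm : ∀ i j : ℤ, |i - j| < 4 → x i * x j = x j * x i :=
    fun i j h => hcm0 i j (by exact_mod_cast h)
  have hnc : ∀ i : ℤ, x i * x (i + 4) ≠ x (i + 4) * x i := fun i => by
    exact_mod_cast hnc0 i
  have C1 : ∀ a b : ℤ, a < b → b - a + 1 ≤ 6 →
      x a * x b * (x a)⁻¹ * (x b)⁻¹ ∈ X x (a + 1) (b - 1) :=
    fun a b h1 h2 => hc1 x g 6 T a b h1 (by exact_mod_cast h2)
  have SP : ∀ a b : ℤ, a ≤ b → b - a + 1 ≤ 6 → ∀ c ∈ X x a b,
      (c ∈ X x a (b - 1) ∨ c * x b ∈ X x a (b - 1)) ∧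
      (c ∈ X x (a + 1) b ∨ x a * c ∈ X x (a + 1) b) :=
    fun a b h1 h2 => hsplit x g 6 T a b h1 (by exact_mod_cast h2)
  have hinv := T.inv
  have hxinv : ∀ i, (x i)⁻¹ = x i := fun i => inv_eq_of_mul_eq_one_right (hinv i)
  -- `[x_0, x_4] = x_2`
  have hE0 : x 0 * x 4 * (x 0)⁻¹ * (x 4)⁻¹ = x 2 := by
    have h := hc4 x g 6 4 T L (by norm_num)
    have h' : x 0 * x 4 * (x 0)⁻¹ * (x 4)⁻¹ ∈ X x 2 2 := by
      push_cast at h
      exact h
    rcases (SP 2 2 le_rfl (by norm_num) _ h').1 with h1 | h1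
    · exfalso
      rw [X_empty x (by norm_num), Subgroup.mem_bot] at h1
      apply hnc 0
      have h2 : x 0 * x 4 = x 4 * x 0 := by
        calc x 0 * x 4 = (x 0 * x 4 * (x 0)⁻¹ * (x 4)⁻¹) * (x 4 * x 0) := by group
          _ = x 4 * x 0 := by rw [h1, one_mul]
      simpa using h2
    · rw [X_empty x (by norm_num), Subgroup.mem_bot] at h1
      rw [eq_inv_of_mul_eq_one_left h1, hxinv]
  -- shifting
  have hshift : ∀ (n : ℕ) (j : ℤ), g ^ n * x j * (g ^ n)⁻¹ = x (j + n) := by
    intro n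
    induction n with
    | zero => intro j; simp
    | succ n ih =>
      intro j
      calc g ^ (n + 1) * x j * (g ^ (n + 1))⁻¹ = g * (g ^ n * x j * (g ^ n)⁻¹) * g⁻¹ := by
            rw [pow_succ']; group
        _ = x (j + ((n + 1 : ℕ) : ℤ)) := by
            rw [ih, T.shift]
            congr 1
            push_cast
            ring
  have hE3 : x 3 * x 7 * (x 3)⁻¹ * (x 7)⁻¹ = x 5 := by
    have e0 := hshift 3 0
    have e4 := hshift 3 4
    have e2 := hshift 3 2
    norm_num at e0 e4 e2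
    rw [← e0, ← e4, ← e2, ← hE0]
    group
  -- `[x_i, x_(i+5)] ∈ X[i+2, i+3]`
  have hD := d_mem x hinv hcm hnc C1 SP
  have hD0 : x 0 * x 5 * (x 0)⁻¹ * (x 5)⁻¹ ∈ X x 2 3 := by
    have h := hD 0
    norm_num at h
    exact h
  have hD2 : x 2 * x 7 * (x 2)⁻¹ * (x 7)⁻¹ ∈ X x 4 5 := by
    have h := hD 2
    norm_num at h
    exact h
  -- the subgroup `R = X[2,5]`
  have key : ∀ i : ℤ, 0 ≤ i → i ≤ 7 → ∀ j : ℤ, 2 ≤ j → j ≤ 5 →
      x i * x j * (x i)⁻¹ ∈ X x 2 5 := by
    intro i h0 h7 j h2 h5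
    have hjR : x j ∈ X x 2 5 := mem_X x h2 h5
    by_cases hi : 2 ≤ i ∧ i ≤ 5
    · have hiR : x i ∈ X x 2 5 := mem_X x hi.1 hi.2
      exact (X x 2 5).mul_mem ((X x 2 5).mul_mem hiR hjR) ((X x 2 5).inv_mem hiR)
    · have hcases : i = 0 ∨ i = 1 ∨ i = 6 ∨ i = 7 := by omega
      rcases hcases with rfl | rfl | rfl | rfl
      · have hj : j = 2 ∨ j = 3 ∨ j = 4 ∨ j = 5 := by omega
        rcases hj with rfl | rfl | rfl | rfl
        · rw [hcm 0 2 (by norm_num), mul_inv_cancel_right]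
          exact hjR
        · rw [hcm 0 3 (by norm_num), mul_inv_cancel_right]
          exact hjR
        · have e : x 0 * x 4 * (x 0)⁻¹ = x 2 * x 4 := by
            rw [← hE0]; group
          rw [e]
          exact (X x 2 5).mul_mem (mem_X x (by norm_num) (by norm_num)) hjR
        · have e : x 0 * x 5 * (x 0)⁻¹ = (x 0 * x 5 * (x 0)⁻¹ * (x 5)⁻¹) * x 5 := by group
          rw [e]
          exact (X x 2 5).mul_mem (X_mono x (by norm_num) (by norm_num) hD0) hjR
      · have h := C1 1 j (by omega) (by omega)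
        have e : x 1 * x j * (x 1)⁻¹ = (x 1 * x j * (x 1)⁻¹ * (x j)⁻¹) * x j := by group
        rw [e]
        exact (X x 2 5).mul_mem (X_mono x (by norm_num) (by omega) h) hjR
      · have h := C1 j 6 (by omega) (by omega)
        rw [conj_eq_mul_comm (x j) (x 6) (hinv j)]
        exact (X x 2 5).mul_mem hjR (X_mono x (by omega) (by norm_num) h)
      · have hj : j = 2 ∨ j = 3 ∨ j = 4 ∨ j = 5 := by omega
        rcases hj with rfl | rfl | rfl | rfl
        · rw [conj_eq_mul_comm (x 2) (x 7) (hinv 2)]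
          exact (X x 2 5).mul_mem hjR (X_mono x (by norm_num) (by norm_num) hD2)
        · rw [conj_eq_mul_comm (x 3) (x 7) (hinv 3), hE3]
          exact (X x 2 5).mul_mem hjR (mem_X x (by norm_num) (by norm_num))
        · rw [hcm 7 4 (by norm_num), mul_inv_cancel_right]
          exact hjR
        · rw [hcm 7 5 (by norm_num), mul_inv_cancel_right]
          exact hjR
  have hnorm : ∀ i : ℤ, 0 ≤ i → i ≤ 7 → x i ∈ Subgroup.normalizer ((X x 2 5 : Subgroup G) : Set G) := by
    intro i h0 h7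
    have hsub : ∀ h ∈ X x 2 5, x i * h * (x i)⁻¹ ∈ X x 2 5 := by
      have hle : X x 2 5 ≤ (X x 2 5).comap (MulAut.conj (x i)).toMonoidHom := by
        rw [X_le_iff]
        intro j h2 h5
        rw [Subgroup.mem_comap]
        exact key i h0 h7 j h2 h5
      intro h hh
      exact hle hh
    rw [Subgroup.mem_normalizer_iff]
    intro h
    constructor
    · exact hsub h
    · intro hh
      have h1 := hsub _ hh
      have e : x i * (x i * h * (x i)⁻¹) * (x i)⁻¹ = h := by
        calc x i * (x i * h * (x i)⁻¹) * (x i)⁻¹ = (x i * x i) * h * (x i * x i)⁻¹ := by group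
          _ = h := by rw [hinv i]; group
      rwa [e] at h1
  have htop : Subgroup.normalizer ((X x 2 5 : Subgroup G) : Set G) = ⊤ := by
    rw [eq_top_iff, ← T.gen]
    apply sup_le
    · rw [X_le_iff]
      intro i h1 h2
      exact hnorm i h1 (by push_cast at h2; omega)
    · rw [X_le_iff]
      intro i h1 h2
      exact hnorm i (by omega) (by push_cast at h2; omega)
  have hRn : (X x 2 5).Normal := Subgroup.normalizer_eq_top_iff.mp htop
  have hRbot : X x 2 5 = ⊥ := T.core _ hRn (X_mono x (by norm_num) (by norm_num))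
  have hx2 : x 2 ∈ X x 2 5 := mem_X x (by norm_num) (by norm_num)
  rw [hRbot, Subgroup.mem_bot] at hx2
  apply hnc 2
  rw [hx2]
  simp

example (hcard : CardStmt.{u}) (hc1 : C1Stmt.{u}) (hsplit : SplitStmt.{u})
    (hcomm : CommStmt.{u}) (hc4 : C4Stmt.{u}) :
    ∀ {G : Type u} [Group G] [Finite G] (x : ℤ → G) (g : G), TData x g 6 →
      IsLam x 4 → False :=
  c6 hcard hc1 hsplit hcomm hc4

end Cfsg.Agent.H63.Tt
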