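import Mathlib

set_option autoImplicit false

namespace Cfsg.Agent.H63.TwoClosed

open MulAction

/-- A nontrivial normal subgroup of a finite `p`-group contains a central element of order `p`. -/
theorem exists_central_order_p_in_normal {Q : Type*} [Group Q] [Finite Q] (p : ℕ) [Fact p.Prime]
    (hQ : IsPGroup p Q) (N : Subgroup Q) [N.Normal] (hN : N ≠ ⊥) :
    ∃ n ∈ N, (∀ g : Q, g * n = n * g) ∧ orderOf n = p := by
  have hdvd : ∀ M : Subgroup Q, M ≠ ⊥ → p ∣ Nat.card M := by
    intro M hM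
    obtain ⟨k, hk⟩ := IsPGroup.iff_card.mp (hQ.to_subgroup M)
    have hk0 : k ≠ 0 := by
      rintro rfl
      rw [pow_zero] at hk
      exact hM (Subgroup.card_eq_one.mp hk)
    rw [hk]; exact dvd_pow_self p hk0
  have h1 : N ⊓ Subgroup.center Q ≠ ⊥ := by
    have hQ' : IsPGroup p (ConjAct Q) := hQ
    have hfix : (1 : N) ∈ MulAction.fixedPoints (ConjAct Q) N := fun g => smul_one g
    obtain ⟨b, hb, hb1⟩ :=
      hQ'.exists_fixed_point_of_prime_dvd_card_of_fixed_point N (hdvd N hN) hfix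
    intro hbot
    apply hb1
    have hbm : (b : Q) ∈ N ⊓ Subgroup.center Q := by
      refine Subgroup.mem_inf.mpr ⟨b.2, ?_⟩
      rw [Subgroup.mem_center_iff]
      intro g
      have h2 := hb (ConjAct.toConjAct g)
      have h3 : g * (b : Q) * g⁻¹ = b := by
        have h4 := congrArg Subtype.val h2
        rw [ConjAct.Subgroup.val_conj_smul, ConjAct.smul_def] at h4
        simpa using h4
      calc g * (b : Q) = (g * b * g⁻¹) * g := by group
        _ = b * g := by rw [h3]
    rw [hbot, Subgroup.mem_bot] at hbm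
    exact (Subtype.ext hbm).symm
  obtain ⟨x, hx⟩ := exists_prime_orderOf_dvd_card' (G := ↥(N ⊓ Subgroup.center Q)) p (hdvd _ h1)
  refine ⟨x, (Subgroup.mem_inf.mp x.2).1, ?_, by rw [Subgroup.orderOf_coe]; exact hx⟩
  intro g
  exact Subgroup.mem_center_iff.mp (Subgroup.mem_inf.mp x.2).2 g

/-- In a transitive `p`-group, a normal subgroup acting nontrivially contains an element without
fixed points whose `p`-th power acts trivially. -/
theorem exists_fpf_in_normal {P X : Type*} [Group P] [Finite P] [MulAction P X]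
    [IsPretransitive P X] (p : ℕ) [Fact p.Prime] (hP : IsPGroup p P) (E : Subgroup P)
    [hE : E.Normal] (hmove : ∃ e ∈ E, ∃ x : X, e • x ≠ x) :
    ∃ y ∈ E, (∀ x : X, y • x ≠ x) ∧ (∀ x : X, y ^ p • x = x) := by
  have hp := Fact.out (p := p.Prime)
  let φ : P →* Equiv.Perm X := MulAction.toPermHom P X
  let ψ : P →* φ.range := φ.rangeRestrict
  have hψs : Function.Surjective ψ := φ.rangeRestrict_surjective
  have : Finite φ.range := Finite.of_surjective ψ hψs
  have hQ : IsPGroup p φ.range := hP.of_surjective ψ hψs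
  have hN : (E.map ψ).Normal := hE.map ψ hψs
  have hNb : E.map ψ ≠ ⊥ := by
    obtain ⟨e, he, x, hx⟩ := hmove
    intro hbot
    have hmem : ψ e ∈ E.map ψ := Subgroup.mem_map_of_mem ψ he
    rw [hbot, Subgroup.mem_bot] at hmem
    have h2 : φ e = 1 := congrArg Subtype.val hmem
    apply hx
    have h3 : (φ e) x = x := by rw [h2]; rfl
    exact h3
  obtain ⟨n, hnN, hnc, hno⟩ := exists_central_order_p_in_normal p hQ (E.map ψ) hNb
  obtain ⟨y, hyE, rfl⟩ := hnN
  have hy1 : ψ y ≠ 1 := by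
    intro h; rw [h, orderOf_one] at hno; exact hp.one_lt.ne hno
  refine ⟨y, hyE, ?_, ?_⟩
  · intro x hx
    apply hy1
    apply Subtype.ext
    apply Equiv.ext
    intro x'
    obtain ⟨g, rfl⟩ := exists_smul_eq P x x'
    have hc := hnc (ψ g)
    have hc' : φ g * φ y = φ y * φ g := congrArg Subtype.val hc
    have h4 := congrArg (fun τ : Equiv.Perm X => τ x) hc'
    simp only [Equiv.Perm.mul_apply] at h4
    show (φ y) (g • x) = g • x
    have e1 : φ y x = x := hx
    have e2 : φ g x = g • x := rfl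
    rw [e1, e2] at h4
    exact h4.symm
  · intro x
    have h1 : ψ (y ^ p) = 1 := by rw [map_pow, ← hno, pow_orderOf_eq_one]
    have h2 : φ (y ^ p) = 1 := congrArg Subtype.val h1
    have h3 : (φ (y ^ p)) x = x := by rw [h2]; rfl
    exact h3

/-- Orbits of a Sylow `p`-subgroup of a transitive group have size divisible by the `p`-part
of the degree. -/
theorem sylow_orbit_dvd {G Ω : Type*} [Group G] [Finite G] [MulAction G Ω] [Finite Ω]
    [IsPretransitive G Ω] (p : ℕ) [Fact p.Prime] (P : Sylow p G) (ω : Ω) (k : ℕ)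
    (hk : p ^ k ∣ Nat.card Ω) : p ^ k ∣ (orbit (↥(P : Subgroup G)) ω).ncard := by
  have hp := Fact.out (p := p.Prime)
  have h1 : Nat.card Ω * Nat.card (stabilizer G ω) = Nat.card G := by
    have := (stabilizer G ω).index_mul_card
    rw [index_stabilizer, orbit_eq_univ, Set.ncard_univ] at this
    exact this
  have h2 := (stabilizer (↥(P : Subgroup G)) ω).index_mul_card
  rw [index_stabilizer] at h2
  have h3 : Nat.card (stabilizer (↥(P : Subgroup G)) ω) ∣ Nat.card (stabilizer G ω) := by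
    have hle : (stabilizer (↥(P : Subgroup G)) ω).map (P : Subgroup G).subtype ≤ stabilizer G ω := by
      rintro _ ⟨s, hs, rfl⟩
      exact hs
    have := Subgroup.card_dvd_of_le hle
    rwa [Subgroup.card_map_of_injective (Subgroup.subtype_injective _)] at this
  obtain ⟨j, hj⟩ := IsPGroup.iff_card.mp
    ((P.isPGroup').to_subgroup (stabilizer (↥(P : Subgroup G)) ω))
  have h4 : Nat.card (P : Subgroup G) = p ^ (Nat.card G).factorization p := P.card_eq_multiplicity
  have h5 : p ^ (k + j) ∣ Nat.card G := by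
    rw [← h1, pow_add]; exact mul_dvd_mul hk (hj ▸ h3)
  have h6 : k + j ≤ (Nat.card G).factorization p :=
    (hp.pow_dvd_iff_le_factorization (Nat.card_pos.ne')).mp h5
  rw [hj, h4] at h2
  have h7 : (orbit (↥(P : Subgroup G)) ω).ncard = p ^ ((Nat.card G).factorization p - j) := by
    have hn : (Nat.card G).factorization p = ((Nat.card G).factorization p - j) + j := by omega
    rw [hn, pow_add] at h2
    exact Nat.eq_of_mul_eq_mul_right (pow_pos hp.pos j) h2
  rw [h7]
  exact pow_dvd_pow p (by omega)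

/-- A faithful `p`-group which is transitive, or has exactly two orbits of size `p²`, yields a
fixed-point-free permutation of order `p` lying in its 2-closure. -/
theorem pgroup_two_orbits {P Ω : Type*} [Group P] [Finite P] [MulAction P Ω] [FaithfulSMul P Ω]
    [Finite Ω] (p : ℕ) [Fact p.Prime] (hP : IsPGroup p P) (hΩ : 1 < Nat.card Ω)
    (h : (∀ a b : Ω, ∃ g : P, g • a = b) ∨
      ((∀ ω : Ω, (orbit P ω).ncard = p ^ 2) ∧ Nat.card Ω = 2 * p ^ 2)) :
    ∃ σ : Equiv.Perm Ω, (∀ a b : Ω, ∃ g : P, σ a = g • a ∧ σ b = g • b) ∧ (∀ a, σ a ≠ a) ∧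
      (∀ a, (σ ^ p) a = a) := by
  classical
  have hp := Fact.out (p := p.Prime)
  have hmove : ∃ (g : P) (ω : Ω), g • ω ≠ ω := by
    have hnt : Nontrivial Ω := Finite.one_lt_card_iff_nontrivial.mp hΩ
    obtain ⟨a, b, hab⟩ := exists_pair_ne Ω
    rcases h with hT | ⟨horb, -⟩
    · obtain ⟨g, hg⟩ := hT a b
      exact ⟨g, a, by rw [hg]; exact hab.symm⟩
    · by_contra hcon
      push Not at hcon
      have h1 : 1 < (orbit P a).ncard := by
        rw [horb a]
        have := hp.two_le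
        nlinarith
      rw [Set.one_lt_ncard_iff] at h1
      obtain ⟨x, y, ⟨g, rfl⟩, ⟨g', rfl⟩, hxy⟩ := h1
      apply hxy
      show g • a = g' • a
      rw [hcon g a, hcon g' a]
  have hntP : (⊤ : Subgroup P) ≠ ⊥ := by
    obtain ⟨g, ω, hg⟩ := hmove
    intro htop
    have hgb : g ∈ (⊥ : Subgroup P) := htop ▸ Subgroup.mem_top g
    rw [Subgroup.mem_bot] at hgb
    exact hg (by rw [hgb, one_smul])
  obtain ⟨z, -, hzc, hzo⟩ := exists_central_order_p_in_normal p hP ⊤ hntP
  have hz1 : z ≠ 1 := by rintro rfl; rw [orderOf_one] at hzo; exact hp.one_lt.ne hzo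
  have hzp : z ^ p = 1 := by rw [← hzo]; exact pow_orderOf_eq_one z
  by_cases hz : ∀ ω : Ω, z • ω ≠ ω
  · refine ⟨MulAction.toPerm z, fun a b => ⟨z, rfl, rfl⟩, hz, fun a => ?_⟩
    have h1 : (MulAction.toPerm z : Equiv.Perm Ω) ^ p = 1 := by
      rw [← MulAction.toPermHom_apply, ← map_pow, hzp, map_one]
    rw [h1]; rfl
  push Not at hz
  obtain ⟨ω₂, hω₂⟩ := hz
  obtain ⟨ω₁, hω₁⟩ : ∃ ω₁ : Ω, z • ω₁ ≠ ω₁ := by
    by_contra hcon
    push Not at hcon
    exact hz1 (FaithfulSMul.eq_of_smul_eq_smul (α := Ω) (fun a => by rw [hcon a, one_smul]))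
  have hfix : ∀ ω : Ω, z • ω = ω → ∀ g : P, z • g • ω = g • ω := by
    intro ω hω g
    rw [smul_smul, ← hzc g, mul_smul, hω]
  have hmov : ∀ ω : Ω, z • ω ≠ ω → ∀ g : P, z • g • ω ≠ g • ω := by
    intro ω hω g hcon
    apply hω
    have := hfix (g • ω) hcon g⁻¹
    simpa using this
  rcases h with hT | ⟨horb, hcard⟩
  · exfalso
    obtain ⟨g, hg⟩ := hT ω₂ ω₁
    exact hω₁ (hg ▸ hfix ω₂ hω₂ g)
  have hdisj : Disjoint (orbit P ω₁) (orbit P ω₂) := by
    rw [Set.disjoint_left]
    rintro ω ⟨g, rfl⟩ ⟨g', hg'⟩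
    have hg'' : g' • ω₂ = g • ω₁ := hg'
    exact hmov ω₁ hω₁ g (by rw [← hg'']; exact hfix ω₂ hω₂ g')
  have hunion : orbit P ω₁ ∪ orbit P ω₂ = Set.univ := by
    rw [Set.eq_univ_iff_ncard, Set.ncard_union_eq hdisj, horb, horb, hcard]; ring
  have hO2 : ∀ ω : Ω, z • ω = ω → ω ∈ orbit P ω₂ := by
    intro ω hω
    have hmem : ω ∈ orbit P ω₁ ∪ orbit P ω₂ := hunion ▸ Set.mem_univ ω
    rcases hmem with ⟨g, rfl⟩ | h2
    · exact absurd hω (hmov ω₁ hω₁ g)
    · exact h2
  have hO1 : ∀ ω : Ω, z • ω ≠ ω → ω ∈ orbit P ω₁ := by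
    intro ω hω
    have hmem : ω ∈ orbit P ω₁ ∪ orbit P ω₂ := hunion ▸ Set.mem_univ ω
    rcases hmem with h1 | ⟨g, rfl⟩
    · exact h1
    · exact absurd (hfix ω₂ hω₂ g) hω
  have hzk : ∀ (k : ℤ) (g : P), g * z ^ k = z ^ k * g := fun k g =>
    (Commute.zpow_right (hzc g) k).eq
  let E' : Subgroup P :=
    { carrier := {e | ∃ k : ℤ, e • ω₁ = z ^ k • ω₁}
      mul_mem' := by
        rintro a b ⟨k, hk⟩ ⟨l, hl⟩
        refine ⟨k + l, ?_⟩
        rw [mul_smul, hl, smul_smul, hzk l a, mul_smul, hk, smul_smul, ← zpow_add, add_comm]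
      one_mem' := ⟨0, by simp⟩
      inv_mem' := by
        rintro a ⟨k, hk⟩
        refine ⟨-k, ?_⟩
        rw [inv_smul_eq_iff, smul_smul, hzk (-k) a, mul_smul, hk, smul_smul, ← zpow_add]
        simp }
  have hstabE : stabilizer P ω₁ ≤ E' := fun s hs => ⟨0, by simpa using hs⟩
  have hzE : z ∈ E' := ⟨1, by simp⟩
  have hidx1 : (stabilizer P ω₁).index = p ^ 2 := by rw [index_stabilizer, horb]
  have hdvd : E'.index ∣ p := by
    have h1 : (stabilizer P ω₁).relIndex E' * E'.index = p ^ 2 := by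
      rw [Subgroup.relIndex_mul_index hstabE, hidx1]
    have h2 : (stabilizer P ω₁).relIndex E' ≠ 1 := by
      intro h
      rw [Subgroup.relIndex_eq_one] at h
      exact hω₁ (h hzE)
    obtain ⟨j, hj, hj'⟩ := (Nat.dvd_prime_pow hp).mp (Dvd.intro_left _ h1)
    interval_cases j
    · simp [hj']
    · simp [hj']
    · exfalso
      rw [hj'] at h1
      apply h2
      have hpos : 0 < p ^ 2 := pow_pos hp.pos 2
      exact Nat.eq_of_mul_eq_mul_right hpos (by rw [h1, one_mul])
  have hnorm : E'.Normal := by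
    rcases (Nat.dvd_prime hp).mp hdvd with h | h
    · rw [Subgroup.index_eq_one] at h; rw [h]; infer_instance
    · apply Subgroup.normal_of_index_eq_minFac_card
      obtain ⟨n, hn⟩ := IsPGroup.iff_card.mp hP
      have hn0 : n ≠ 0 := by
        rintro rfl
        rw [pow_zero] at hn
        have hsub : Subsingleton P := (Nat.card_eq_one_iff_unique.mp hn).1
        exact hz1 (Subsingleton.elim z 1)
      rw [h, hn, hp.pow_minFac hn0]
  have hstar : ∀ e ∈ E', ∀ a : Ω, z • a ≠ a → ∃ k : ℤ, e • a = z ^ k • a := by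
    intro e he a ha
    obtain ⟨g, rfl⟩ := hO1 a ha
    obtain ⟨k, hk⟩ := hnorm.conj_mem e he g⁻¹
    refine ⟨k, ?_⟩
    show e • g • ω₁ = z ^ k • g • ω₁
    calc e • g • ω₁ = g • (g⁻¹ * e * g⁻¹⁻¹) • ω₁ := by simp [mul_smul]
      _ = g • z ^ k • ω₁ := by rw [hk]
      _ = z ^ k • g • ω₁ := by rw [smul_smul, hzk k g, mul_smul]
  have hmoveE : ∃ e ∈ E', ∃ x : orbit P ω₂, e • x ≠ x := by
    by_contra hcon
    push Not at hcon
    have hle : E' ≤ stabilizer P ω₂ := by
      intro e he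
      have := hcon e he ⟨ω₂, mem_orbit_self ω₂⟩
      exact congrArg Subtype.val this
    have h1 : (stabilizer P ω₂).index = p ^ 2 := by rw [index_stabilizer, horb]
    have h2 := Subgroup.index_dvd_of_le hle
    rw [h1] at h2
    have h3 := Nat.le_of_dvd hp.pos (h2.trans hdvd)
    nlinarith [hp.two_le]
  obtain ⟨y, hyE, hy1, hy2⟩ := exists_fpf_in_normal (X := orbit P ω₂) p hP E' hmoveE
  have hyfix : ∀ b : Ω, z • b = b → y • b ≠ b ∧ y ^ p • b = b := by
    intro b hb
    have hb' := hO2 b hb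
    exact ⟨fun h => hy1 ⟨b, hb'⟩ (Subtype.ext h), congrArg Subtype.val (hy2 ⟨b, hb'⟩)⟩
  let f : Ω → Ω := fun ω => if z • ω = ω then y • ω else z • ω
  have hzy : ∀ ω : Ω, z • y • ω = y • z • ω := fun ω => by
    rw [smul_smul, smul_smul, hzc y]
  have hf1 : ∀ ω, z • ω = ω → f ω = y • ω := fun ω h => if_pos h
  have hf2 : ∀ ω, z • ω ≠ ω → f ω = z • ω := fun ω h => if_neg h
  have hfz : ∀ ω, z • f ω = f ω ↔ z • ω = ω := by
    intro ω
    by_cases h : z • ω = ω
    · rw [hf1 ω h, hzy, h]; simp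
    · rw [hf2 ω h]
      constructor
      · intro h'; exact smul_left_cancel z h'
      · intro h'; exact absurd h' h
  have hinj : Function.Injective f := by
    intro a b hab
    have hiff : z • a = a ↔ z • b = b := by rw [← hfz a, ← hfz b, hab]
    by_cases ha : z • a = a
    · have hb := hiff.mp ha
      rw [hf1 a ha, hf1 b hb] at hab
      exact smul_left_cancel y hab
    · have hb : z • b ≠ b := fun h => ha (hiff.mpr h)
      rw [hf2 a ha, hf2 b hb] at hab
      exact smul_left_cancel z hab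
  let σ : Equiv.Perm Ω := Equiv.ofBijective f (Finite.injective_iff_bijective.mp hinj)
  have hσ : ∀ ω, σ ω = f ω := fun ω => rfl
  have hσn : ∀ (n : ℕ) (a : Ω), z • (σ ^ n) a = (σ ^ n) a ↔ z • a = a := by
    intro n a
    induction n with
    | zero => simp
    | succ n ih => rw [pow_succ', Equiv.Perm.mul_apply, hσ, hfz, ih]
  refine ⟨σ, ?_, ?_, ?_⟩
  · have key : ∀ a b : Ω, z • a ≠ a → z • b = b → ∃ g : P, z • a = g • a ∧ y • b = g • b := by
      intro a b ha hb
      obtain ⟨k, hk⟩ := hstar y hyE a ha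
      refine ⟨y * z ^ (1 - k), ?_, ?_⟩
      · rw [hzk (1 - k) y, mul_smul, hk, smul_smul, ← zpow_add]; simp
      · rw [mul_smul]
        have hzb : z ∈ stabilizer P b := hb
        have hzb' : z ^ (1 - k) • b = b := (stabilizer P b).zpow_mem hzb (1 - k)
        rw [hzb']
    intro a b
    by_cases ha : z • a = a <;> by_cases hb : z • b = b
    · exact ⟨y, by rw [hσ, hf1 a ha], by rw [hσ, hf1 b hb]⟩
    · obtain ⟨g, h1, h2⟩ := key b a hb ha
      exact ⟨g, by rw [hσ, hf1 a ha, h2], by rw [hσ, hf2 b hb, h1]⟩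
    · obtain ⟨g, h1, h2⟩ := key a b ha hb
      exact ⟨g, by rw [hσ, hf2 a ha, h1], by rw [hσ, hf1 b hb, h2]⟩
    · exact ⟨z, by rw [hσ, hf2 a ha], by rw [hσ, hf2 b hb]⟩
  · intro a
    by_cases ha : z • a = a
    · rw [hσ, hf1 a ha]; exact (hyfix a ha).1
    · rw [hσ, hf2 a ha]; exact ha
  · intro a
    by_cases ha : z • a = a
    · have hpow : ∀ n : ℕ, (σ ^ n) a = y ^ n • a := by
        intro n
        induction n with
        | zero => simp
        | succ n ih =>
          rw [pow_succ', Equiv.Perm.mul_apply, hσ, hf1 _ ((hσn n a).mpr ha), ih, smul_smul,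
            ← pow_succ']
      rw [hpow]; exact (hyfix a ha).2
    · have hpow : ∀ n : ℕ, (σ ^ n) a = z ^ n • a := by
        intro n
        induction n with
        | zero => simp
        | succ n ih =>
          rw [pow_succ', Equiv.Perm.mul_apply, hσ, hf2 _ (fun h => ha ((hσn n a).mp h)), ih,
            smul_smul, ← pow_succ']
      rw [hpow, hzp, one_smul]

end Cfsg.Agent.H63.TwoClosed
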