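import Mathlib
import Cfsg.Agent.H83.UPDefs
import Cfsg.Agent.H63.HHFNab

set_option autoImplicit false

/-!
# S6001 (helper83's team project), piece STRUCT (helper63)

A group `R` of order `64` and exponent `4` with centre of order `4`, all of whose characteristic
abelian subgroups are cyclic, has `R / Z(R)` elementary abelian: squares and commutators are
central.
-/

namespace Cfsg.Agent.H63.UP

open Cfsg Cfsg.Agent.H83.UP

universe u

section

variable {R : Type u} [Group R]

theorem mem_Z2_iff {g : R} :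
    g ∈ Subgroup.upperCentralSeries R 2 ↔ ∀ h : R, g * h * g⁻¹ * h⁻¹ ∈ Subgroup.center R := by
  rw [show (2 : ℕ) = 1 + 1 from rfl, Subgroup.mem_upperCentralSeries_succ_iff,
    Subgroup.upperCentralSeries_one]
  simp only [commutatorElement_def]

/-- If `c = [g, h]` is central then `[g², h] = c²`. -/
theorem comm_sq {g h : R} (hc : g * h * g⁻¹ * h⁻¹ ∈ Subgroup.center R) :
    g ^ 2 * h * (g ^ 2)⁻¹ * h⁻¹ = (g * h * g⁻¹ * h⁻¹) ^ 2 := by
  have hcomm := Subgroup.mem_center_iff.mp hc g
  have e : g * g * h * (g * g)⁻¹ * h⁻¹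
      = g * (g * h * g⁻¹ * h⁻¹) * g⁻¹ * (g * h * g⁻¹ * h⁻¹) := by group
  rw [pow_two, e, hcomm, mul_inv_cancel_right, pow_two]

theorem card_le_two_mul [Finite R] (K L : Subgroup R) (x : R)
    (h : ∀ y ∈ L, y ∈ K ∨ x⁻¹ * y ∈ K) : Nat.card L ≤ 2 * Nat.card K := by
  classical
  have hsub : (L : Set R) ⊆ (K : Set R) ∪ (fun k => x * k) '' (K : Set R) := by
    intro y hy
    rcases h y hy with h1 | h1
    · exact Or.inl h1
    · exact Or.inr ⟨x⁻¹ * y, h1, by group⟩
  have h1 : (L : Set R).ncard ≤ ((K : Set R) ∪ (fun k => x * k) '' (K : Set R)).ncard :=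
    Set.ncard_le_ncard hsub (Set.toFinite _)
  have h2 := Set.ncard_union_le (K : Set R) ((fun k => x * k) '' (K : Set R))
  have h3 : ((fun k => x * k) '' (K : Set R)).ncard ≤ (K : Set R).ncard :=
    Set.ncard_image_le (Set.toFinite _)
  have e1 : Nat.card L = (L : Set R).ncard := Nat.card_coe_set_eq (L : Set R)
  have e2 : Nat.card K = (K : Set R).ncard := Nat.card_coe_set_eq (K : Set R)
  omega

/-- The counting step: `|Z| |R| ≤ |Y| |C_R(Y)|` for `Z ≤ Y ≤ Z₂`. -/
theorem cent_count [Finite R] (z₀ : R)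
    (hinv : ∀ c ∈ Subgroup.center R, c ^ 2 = 1 → c = 1 ∨ c = z₀)
    (hsq : ∀ g ∈ Subgroup.upperCentralSeries R 2, ∀ x : R, (g * x * g⁻¹ * x⁻¹) ^ 2 = 1)
    (hA : Subgroup.upperCentralSeries R 2 ⊓ Subgroup.centralizer (Subgroup.upperCentralSeries R 2 : Set R)
      ≤ Subgroup.center R) :
    ∀ (n : ℕ) (Y : Subgroup R), Nat.card Y = n → Subgroup.center R ≤ Y →
      Y ≤ Subgroup.upperCentralSeries R 2 →
      Nat.card (Subgroup.center R) * Nat.card R
        ≤ Nat.card Y * Nat.card (Subgroup.centralizer (Y : Set R)) := by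
  intro n
  induction n using Nat.strong_induction_on with
  | _ n ih =>
    intro Y hYn hZY hYZ2
    by_cases hYZ : Y ≤ Subgroup.center R
    · have hYeq : Y = Subgroup.center R := le_antisymm hYZ hZY
      have hcent : Subgroup.centralizer (Y : Set R) = ⊤ := by
        rw [hYeq]; exact Subgroup.centralizer_eq_top_iff_subset.mpr (le_refl _)
      rw [hcent, hYeq, Subgroup.card_top]
    · obtain ⟨g, hgY, hgZ⟩ := SetLike.not_le_iff_exists.mp hYZ
      have hgZ2 := hYZ2 hgY
      have hex : ∃ h ∈ Subgroup.upperCentralSeries R 2, h * g ≠ g * h := by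
        by_contra hcon
        push Not at hcon
        exact hgZ (hA (Subgroup.mem_inf.mpr ⟨hgZ2, Subgroup.mem_centralizer_iff.mpr hcon⟩))
      obtain ⟨h, hhZ2, hgh⟩ := hex
      -- the value of a nontrivial commutator with an element of `Z₂`
      have hval : ∀ y ∈ Subgroup.upperCentralSeries R 2, ∀ x : R, y * x * y⁻¹ * x⁻¹ ≠ 1 →
          y * x * y⁻¹ * x⁻¹ = z₀ := by
        intro y hy x hne
        rcases hinv _ (mem_Z2_iff.mp hy x) (hsq y hy x) with h1 | h1
        · exact absurd h1 hne
        · exact h1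
      have hcomm_of : ∀ y x : R, y * x * y⁻¹ * x⁻¹ = 1 → x * y = y * x := by
        intro y x h1
        have e : x * y = (y * x * y⁻¹ * x⁻¹)⁻¹ * (y * x) := by group
        rw [e, h1, inv_one, one_mul]
      have hne_of : ∀ y x : R, x * y ≠ y * x → y * x * y⁻¹ * x⁻¹ ≠ 1 :=
        fun y x hne h1 => hne (hcomm_of y x h1)
      have hgh' : g * h * g⁻¹ * h⁻¹ = z₀ := hval g hgZ2 h (hne_of g h hgh)
      -- `Y' = C_Y(h)`
      have hZY' : Subgroup.center R ≤ Y ⊓ Subgroup.centralizer ({h} : Set R) := by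
        intro z hz
        refine Subgroup.mem_inf.mpr ⟨hZY hz, ?_⟩
        rw [Subgroup.mem_centralizer_iff]
        intro w hw
        rw [Set.mem_singleton_iff] at hw
        rw [hw]; exact Subgroup.mem_center_iff.mp hz h
      have hY'Z2 : Y ⊓ Subgroup.centralizer ({h} : Set R) ≤ Subgroup.upperCentralSeries R 2 :=
        inf_le_left.trans hYZ2
      have hgY' : g ∉ Y ⊓ Subgroup.centralizer ({h} : Set R) := by
        intro hg
        have := Subgroup.mem_centralizer_iff.mp (Subgroup.mem_inf.mp hg).2 h rfl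
        exact hgh this
      have hY'le : Y ⊓ Subgroup.centralizer ({h} : Set R) ≤ Y := inf_le_left
      have hdvd : Nat.card ↥(Y ⊓ Subgroup.centralizer ({h} : Set R)) ∣ Nat.card Y :=
        Subgroup.card_dvd_of_le hY'le
      have hne : Nat.card ↥(Y ⊓ Subgroup.centralizer ({h} : Set R)) ≠ Nat.card Y := by
        intro heq
        have := Subgroup.eq_of_le_of_card_ge hY'le heq.ge
        exact hgY' (by rw [this]; exact hgY)
      have hYpos : 0 < Nat.card Y := Nat.card_pos
      have hlt : Nat.card ↥(Y ⊓ Subgroup.centralizer ({h} : Set R)) < n := by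
        rw [← hYn]
        exact lt_of_le_of_ne (Nat.le_of_dvd hYpos hdvd) hne
      have h2le : 2 * Nat.card ↥(Y ⊓ Subgroup.centralizer ({h} : Set R)) ≤ Nat.card Y := by
        obtain ⟨m, hm⟩ := hdvd
        rcases Nat.lt_or_ge m 2 with hm2 | hm2
        · interval_cases m
          · rw [mul_zero] at hm; omega
          · rw [mul_one] at hm; exact absurd hm.symm hne
        · rw [hm, mul_comm]
          exact Nat.mul_le_mul_left _ hm2
      have hIH := ih _ hlt (Y ⊓ Subgroup.centralizer ({h} : Set R)) rfl hZY' hY'Z2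
      -- membership in `C(Y)` for elements of `C(Y')`
      have hmemK : ∀ w ∈ Subgroup.centralizer ((Y ⊓ Subgroup.centralizer ({h} : Set R) :
          Subgroup R) : Set R), g * w = w * g → w ∈ Subgroup.centralizer (Y : Set R) := by
        intro w hw hwg
        rw [Subgroup.mem_centralizer_iff] at hw ⊢
        intro y hy
        by_cases hyh : h * y = y * h
        · exact hw y (Subgroup.mem_inf.mpr ⟨hy, by
            rw [Subgroup.mem_centralizer_iff]
            intro v hv
            rw [Set.mem_singleton_iff] at hv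
            rw [hv]; exact hyh⟩)
        · have hyv : y * h * y⁻¹ * h⁻¹ = z₀ := hval y (hYZ2 hy) h (hne_of y h hyh)
          have hgy : g⁻¹ * y ∈ Y ⊓ Subgroup.centralizer ({h} : Set R) := by
            refine Subgroup.mem_inf.mpr ⟨Y.mul_mem (Y.inv_mem hgY) hy, ?_⟩
            rw [Subgroup.mem_centralizer_iff]
            intro v hv
            rw [Set.mem_singleton_iff] at hv
            rw [hv]
            have e1 : y * h * y⁻¹ = g * h * g⁻¹ := by
              have : y * h * y⁻¹ * h⁻¹ = g * h * g⁻¹ * h⁻¹ := by rw [hyv, hgh']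
              exact mul_right_cancel this
            calc h * (g⁻¹ * y) = g⁻¹ * (g * h * g⁻¹) * y := by group
              _ = g⁻¹ * (y * h * y⁻¹) * y := by rw [e1]
              _ = g⁻¹ * y * h := by group
          have h1 := hw _ hgy
          -- `h1 : g⁻¹ * y * w = w * (g⁻¹ * y)`
          calc y * w = g * (g⁻¹ * y * w) := by group
            _ = g * (w * (g⁻¹ * y)) := by rw [h1]
            _ = (g * w) * g⁻¹ * y := by group
            _ = (w * g) * g⁻¹ * y := by rw [hwg]
            _ = w * y := by group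
      have hcard : Nat.card ↥(Subgroup.centralizer ((Y ⊓ Subgroup.centralizer ({h} : Set R) :
          Subgroup R) : Set R)) ≤ 2 * Nat.card ↥(Subgroup.centralizer (Y : Set R)) := by
        by_cases hall : ∀ w ∈ Subgroup.centralizer ((Y ⊓ Subgroup.centralizer ({h} : Set R) :
            Subgroup R) : Set R), g * w = w * g
        · apply card_le_two_mul _ _ 1
          intro w hw
          exact Or.inl (hmemK w hw (hall w hw))
        · push Not at hall
          obtain ⟨x, hxL, hxg⟩ := hall
          have hxv : g * x * g⁻¹ * x⁻¹ = z₀ :=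
            hval g hgZ2 x (hne_of g x (fun h1 => hxg h1.symm))
          apply card_le_two_mul _ _ x
          intro w hw
          by_cases hwg : g * w = w * g
          · exact Or.inl (hmemK w hw hwg)
          · right
            have hwv : g * w * g⁻¹ * w⁻¹ = z₀ :=
              hval g hgZ2 w (hne_of g w (fun h1 => hwg h1.symm))
            apply hmemK _ (Subgroup.mul_mem _ (Subgroup.inv_mem _ hxL) hw)
            have e1 : w * g⁻¹ * w⁻¹ = x * g⁻¹ * x⁻¹ := by
              have : g * (w * g⁻¹ * w⁻¹) = g * (x * g⁻¹ * x⁻¹) := by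
                have e2 : g * (w * g⁻¹ * w⁻¹) = g * w * g⁻¹ * w⁻¹ := by group
                have e3 : g * (x * g⁻¹ * x⁻¹) = g * x * g⁻¹ * x⁻¹ := by group
                rw [e2, e3, hwv, hxv]
              exact mul_left_cancel this
            -- `(x⁻¹ w) g⁻¹ (x⁻¹ w)⁻¹ = g⁻¹`
            have e4 : x⁻¹ * w * g⁻¹ = g⁻¹ * (x⁻¹ * w) := by
              calc x⁻¹ * w * g⁻¹ = x⁻¹ * (w * g⁻¹ * w⁻¹) * w := by group
                _ = x⁻¹ * (x * g⁻¹ * x⁻¹) * w := by rw [e1]
                _ = g⁻¹ * (x⁻¹ * w) := by group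
            calc g * (x⁻¹ * w) = g * (x⁻¹ * w * g⁻¹) * g := by group
              _ = g * (g⁻¹ * (x⁻¹ * w)) * g := by rw [e4]
              _ = x⁻¹ * w * g := by group
      calc Nat.card (Subgroup.center R) * Nat.card R
          ≤ Nat.card ↥(Y ⊓ Subgroup.centralizer ({h} : Set R)) *
            Nat.card ↥(Subgroup.centralizer ((Y ⊓ Subgroup.centralizer ({h} : Set R) :
              Subgroup R) : Set R)) := hIH
        _ ≤ Nat.card ↥(Y ⊓ Subgroup.centralizer ({h} : Set R)) *
            (2 * Nat.card ↥(Subgroup.centralizer (Y : Set R))) := Nat.mul_le_mul_left _ hcard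
        _ = (2 * Nat.card ↥(Y ⊓ Subgroup.centralizer ({h} : Set R))) *
            Nat.card ↥(Subgroup.centralizer (Y : Set R)) := by ring
        _ ≤ Nat.card Y * Nat.card ↥(Subgroup.centralizer (Y : Set R)) :=
          Nat.mul_le_mul_right _ h2le

end

/-- **S6001-STRUCT.** -/
theorem struct : StStruct.{u} := by
  intro R _ hcard hZcard hexp hchar
  have : Finite R := Nat.finite_of_card_ne_zero (by rw [hcard]; norm_num)
  have : Fact (Nat.Prime 2) := ⟨Nat.prime_two⟩
  have hR2 : IsPGroup 2 R := IsPGroup.of_card (n := 6) (by rw [hcard]; norm_num)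
  have hpow4 : ∀ x : R, x ^ 4 = 1 := fun x => by
    rw [← hexp]; exact Monoid.pow_exponent_eq_one x
  -- `Z` is cyclic of order 4: a unique involution
  have hZcyc : IsCyclic (Subgroup.center R) := hchar _ inferInstance inferInstance
  have hinv : ∃ z₀ : R, ∀ c ∈ Subgroup.center R, c ^ 2 = 1 → c = 1 ∨ c = z₀ := by
    obtain ⟨ζ, hζ⟩ := IsCyclic.exists_generator (α := Subgroup.center R)
    have hζord : orderOf ζ = 4 := by
      rw [orderOf_eq_card_of_forall_mem_zpowers hζ, hZcard]
    refine ⟨((ζ ^ 2 : Subgroup.center R) : R), ?_⟩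
    intro c hc hc2
    have hmem : (⟨c, hc⟩ : Subgroup.center R) ∈ Submonoid.powers ζ :=
      mem_powers_iff_mem_zpowers.mpr (hζ _)
    obtain ⟨n, hn⟩ := hmem
    have hn' : ζ ^ (n % 4) = ⟨c, hc⟩ := by rw [← hζord, pow_mod_orderOf]; exact hn
    have h2 : ζ ^ (2 * (n % 4)) = 1 := by
      rw [mul_comm, pow_mul, hn']
      exact Subtype.ext (by simpa using hc2)
    have hdvd : orderOf ζ ∣ 2 * (n % 4) := orderOf_dvd_of_pow_eq_one h2
    rw [hζord] at hdvd
    have hlt : n % 4 < 4 := Nat.mod_lt _ (by norm_num)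
    have hcases : n % 4 = 0 ∨ n % 4 = 2 := by omega
    rcases hcases with h0 | h0
    · left
      rw [h0, pow_zero] at hn'
      exact (congrArg Subtype.val hn').symm
    · right
      rw [h0] at hn'
      exact (congrArg Subtype.val hn').symm
  obtain ⟨z₀, hinv⟩ := hinv
  have hZle : Subgroup.center R ≤ Subgroup.upperCentralSeries R 2 := by
    rw [← Subgroup.upperCentralSeries_one]
    exact Subgroup.upperCentralSeries_mono R (by norm_num)
  -- `Z(Z₂) = Z`
  have hA : Subgroup.upperCentralSeries R 2 ⊓ Subgroup.centralizer (Subgroup.upperCentralSeries R 2 : Set R)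
      ≤ Subgroup.center R := by
    have hAchar : (Subgroup.upperCentralSeries R 2 ⊓
        Subgroup.centralizer (Subgroup.upperCentralSeries R 2 : Set R)).Characteristic := inferInstance
    have hAcomm : IsMulCommutative ↥(Subgroup.upperCentralSeries R 2 ⊓
        Subgroup.centralizer (Subgroup.upperCentralSeries R 2 : Set R)) :=
      ⟨⟨fun a b => Subtype.ext
        ((Subgroup.mem_centralizer_iff.mp b.2.2 a.1 a.2.1))⟩⟩
    have hAcyc := hchar _ hAchar hAcomm
    have hZA : Subgroup.center R ≤ Subgroup.upperCentralSeries R 2 ⊓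
        Subgroup.centralizer (Subgroup.upperCentralSeries R 2 : Set R) := by
      intro z hz
      refine Subgroup.mem_inf.mpr ⟨hZle hz, ?_⟩
      rw [Subgroup.mem_centralizer_iff]
      intro h _
      exact Subgroup.mem_center_iff.mp hz h
    have hAcard : Nat.card ↥(Subgroup.upperCentralSeries R 2 ⊓
        Subgroup.centralizer (Subgroup.upperCentralSeries R 2 : Set R)) ≤ 4 := by
      obtain ⟨a, ha⟩ := IsCyclic.exists_generator (α := ↥(Subgroup.upperCentralSeries R 2 ⊓
        Subgroup.centralizer (Subgroup.upperCentralSeries R 2 : Set R)))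
      have h1 := orderOf_eq_card_of_forall_mem_zpowers ha
      have h2 : orderOf (a : R) ∣ 4 := by rw [← hexp]; exact Monoid.order_dvd_exponent _
      rw [Subgroup.orderOf_coe, h1] at h2
      exact Nat.le_of_dvd (by norm_num) h2
    have heq := Subgroup.eq_of_le_of_card_ge hZA (by rw [hZcard]; exact hAcard)
    rw [← heq]
  -- squares of elements of `Z₂` are central
  have hsqZ : ∀ g ∈ Subgroup.upperCentralSeries R 2, g ^ 2 ∈ Subgroup.center R := by
    intro g hg
    by_contra hgZ
    have hg2 : g ^ 2 ∈ Subgroup.upperCentralSeries R 2 := Subgroup.pow_mem _ hg 2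
    have hex : ∃ h ∈ Subgroup.upperCentralSeries R 2, h * g ^ 2 ≠ g ^ 2 * h := by
      by_contra hcon
      push Not at hcon
      exact hgZ (hA (Subgroup.mem_inf.mpr ⟨hg2, Subgroup.mem_centralizer_iff.mpr hcon⟩))
    obtain ⟨h, hhZ2, hne⟩ := hex
    have hcZ0 : g * h * g⁻¹ * h⁻¹ ∈ Subgroup.center R := (mem_Z2_iff.mp hg) h
    have hcs := comm_sq hcZ0
    obtain ⟨c, hcdef⟩ : ∃ c : R, c = g * h * g⁻¹ * h⁻¹ := ⟨_, rfl⟩
    rw [← hcdef] at hcZ0 hcs
    have hcc : ∀ x : R, x * c = c * x := fun x => Subgroup.mem_center_iff.mp hcZ0 x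
    have hc2 : c ^ 2 ≠ 1 := by
      intro h1
      apply hne
      rw [h1] at hcs
      have e : h * g ^ 2 = (g ^ 2 * h * (g ^ 2)⁻¹ * h⁻¹)⁻¹ * (g ^ 2 * h) := by group
      rw [e, hcs, inv_one, one_mul]
    have hgh0 : g * h = c * (h * g) := by rw [hcdef]; group
    have hhg : h * g = g * h * c⁻¹ := by
      calc h * g = c⁻¹ * (c * (h * g)) := by group
        _ = c⁻¹ * (g * h) := by rw [← hgh0]
        _ = g * h * c⁻¹ := ((show Commute (g * h) c from hcc (g * h)).inv_right.eq).symm
    have hcu : Commute c⁻¹ g := (show Commute g c from hcc g).symm.inv_left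
    have hcv : Commute c⁻¹ h := (show Commute h c from hcc h).symm.inv_left
    have hform := Cfsg.Agent.H4.mul_pow_of_class_two g h c⁻¹ hhg hcu hcv 4
    rw [hpow4, hpow4, hpow4, one_mul, one_mul] at hform
    have h6 : Nat.choose 4 2 = 6 := by decide
    rw [h6] at hform
    apply hc2
    have hc4 := hpow4 c
    calc c ^ 2 = (c ^ 4) ^ 2 * c⁻¹ ^ 6 := by group
      _ = 1 := by rw [hc4, ← hform, one_pow, one_mul]
  -- commutators with elements of `Z₂` have square `1`
  have hsq : ∀ g ∈ Subgroup.upperCentralSeries R 2, ∀ x : R, (g * x * g⁻¹ * x⁻¹) ^ 2 = 1 := by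
    intro g hg x
    have hcZ := (mem_Z2_iff.mp hg) x
    rw [← comm_sq hcZ]
    have hg2 := Subgroup.mem_center_iff.mp (hsqZ g hg) x
    rw [← hg2]; group
  -- `C_R(Z₂) = Z`
  have hC : Subgroup.centralizer (Subgroup.upperCentralSeries R 2 : Set R) ≤ Subgroup.center R := by
    by_contra hcon
    obtain ⟨x, hxC, hxZ⟩ := SetLike.not_le_iff_exists.mp hcon
    obtain ⟨b, hbC, hbZ, hbc⟩ := Cfsg.Agent.H63.HHF.nab_rel_center hR2 (Subgroup.center R)
      (Subgroup.centralizer (Subgroup.upperCentralSeries R 2 : Set R)) hxC hxZ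
    apply hbZ
    apply hA
    refine Subgroup.mem_inf.mpr ⟨?_, hbC⟩
    rw [mem_Z2_iff]
    intro h
    have e : b * h * b⁻¹ * h⁻¹ = (h * b * h⁻¹ * b⁻¹)⁻¹ := by group
    rw [e]; exact Subgroup.inv_mem _ (hbc h)
  -- counting: `Z₂ = R`
  have hcount := cent_count z₀ hinv hsq hA (Nat.card (Subgroup.upperCentralSeries R 2))
    (Subgroup.upperCentralSeries R 2) rfl hZle le_rfl
  have hCle : Nat.card ↥(Subgroup.centralizer (Subgroup.upperCentralSeries R 2 : Set R)) ≤ 4 := by
    rw [← hZcard]; exact Subgroup.card_le_of_le hC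
  have hZ2top : Subgroup.upperCentralSeries R 2 = ⊤ := by
    apply Subgroup.eq_top_of_le_card
    rw [hZcard] at hcount
    have h1 : 4 * Nat.card R ≤ Nat.card ↥(Subgroup.upperCentralSeries R 2) * 4 :=
      hcount.trans (Nat.mul_le_mul_left _ hCle)
    omega
  intro g h
  have hg : g ∈ Subgroup.upperCentralSeries R 2 := by rw [hZ2top]; exact Subgroup.mem_top g
  refine ⟨?_, (mem_Z2_iff.mp hg) h⟩
  have h1 := hsqZ g hg
  rwa [pow_two] at h1

example : Cfsg.Agent.H83.UP.StStruct.{u} := struct

end Cfsg.Agent.H63.UP
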